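import Cfsg.Agent.Lib.Sig.SSFT.Main
import Cfsg.Agent.Lib.Coprime.Generation

/-!
# Consequences of the solvable signalizer functor theorem
-/

set_option autoImplicit false
set_option linter.style.haveILetI false
set_option linter.unusedSectionVars false

namespace Cfsg.Lib.Sig.SSFT

open Subgroup
open scoped commutatorElement

universe u

variable {G : Type u} [Group G] [Finite G] {p : ℕ} [hp : Fact p.Prime] {A : Subgroup G} {θ : G → Subgroup G}

namespace Setup

variable (hS : Setup p A θ)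
include hS

theorem closure_mem : (⨆ a : {a : G // a ∈ A ∧ a ≠ 1}, θ a) ∈ Fam p A θ := by
  obtain ⟨U, hU, hle⟩ := complete hS
  refine hS.mem_of_le hU (iSup_le fun a => hle a a.2.1 a.2.2) ?_
  exact (le_iInf fun a : {a : G // a ∈ A ∧ a ≠ 1} => hS.le_normalizer_theta a.2.1 a.2.2).trans
    (iInf_normalizer_le_normalizer_iSup _)

theorem closure_inf_centralizer {a : G} (ha : a ∈ A) (ha1 : a ≠ 1) :
    (⨆ b : {b : G // b ∈ A ∧ b ≠ 1}, θ b) ⊓ centralizer ({a} : Set G) = θ a :=
  le_antisymm (hS.closure_mem.2.2.2 a ha ha1) (le_inf (le_iSup_of_le ⟨a, ha, ha1⟩ le_rfl)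
    (hS.theta_le_centralizer ha ha1))

/-- The closure is generated by the values at the points of any noncyclic subgroup. -/
theorem closure_eq {E : Subgroup G} (hEA : E ≤ A) (hE : p ^ 2 ≤ Nat.card E) :
    (⨆ a : {a : G // a ∈ E ∧ a ≠ 1}, θ a) = ⨆ a : {a : G // a ∈ A ∧ a ≠ 1}, θ a := by
  haveI := hS.comm
  haveI : IsMulCommutative E := ⟨⟨fun a b => Subtype.ext (setLike_mul_comm (hEA a.2) (hEA b.2))⟩⟩
  refine le_antisymm (iSup_le fun a => le_iSup_of_le ⟨a, hEA a.2.1, a.2.2⟩ le_rfl) ?_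
  have hU := hS.closure_mem
  refine (Coprime.le_iSup_centralizer_cocyclic (A := E) _ (hEA.trans (hS.le_normalizer_mem hU))
    ((hS.coprime hU.2.1).coprime_dvd_left (card_dvd_of_le hEA))).trans (iSup₂_le fun B hB => ?_)
  obtain ⟨b, hb, hb1⟩ := B.bot_or_exists_ne_one.resolve_left
    (cocyclic_ne_bot (fun a ha => hS.exp a (hEA ha)) hE hB)
  exact (hS.inf_centralizer_le hU (hB.1.trans hEA) hb hb1).trans (le_iSup_of_le ⟨b, hB.1 hb, hb1⟩ le_rfl)

end Setup

/-- An elementary abelian group of rank three with solvable centralizers acts on solvable groups only. -/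
theorem isSolvable_of_centralizers {K : Subgroup G} (hA : Cfsg.IsElementaryAbelian p A)
    (hA3 : p ^ 3 ≤ Nat.card A) (hK : (Nat.card K).Coprime p) (hAK : A ≤ normalizer (K : Set G))
    (hC : ∀ a ∈ A, a ≠ 1 → Group.IsSolvable ((K ⊓ centralizer ({a} : Set G) : Subgroup G))) :
    Group.IsSolvable K := by
  haveI := hA.1
  have hKp : ¬ p ∣ Nat.card K := hp.out.coprime_iff_not_dvd.mp hK.symm
  have hAC : ∀ a ∈ A, A ≤ normalizer ((centralizer ({a} : Set G) : Subgroup G) : Set G) := fun a ha => by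
    rw [← Local.FreeAction.centralizer_zpowers_eq]
    exact centralizer_le_normalizer' (abelian_le_normalizer (zpowers_le.mpr ha))
  have hS : Setup p A (fun a => K ⊓ centralizer ({a} : Set G)) :=
    ⟨hA, hA3, ⟨fun _ _ _ => inf_le_right, fun _ _ _ hd => hKp (hd.trans (card_dvd_of_le inf_le_left)),
      fun a ha _ => Sig.invariant_of_le_normalizer (inf_le_normalizer hAK (hAC a ha)),
      fun a _ _ b _ _ => le_inf (inf_le_left.trans inf_le_left) inf_le_right⟩, hC⟩
  obtain ⟨U, hU, hle⟩ := complete hS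
  refine Core.isSolvable_of_le ?_ hU.1
  exact hS.le_of_cocyclic hAK hKp fun B hB => by
    obtain ⟨b, hb, hb1⟩ := hS.exists_ne_one hB
    exact (inf_le_inf_left _ (centralizer_le (Set.singleton_subset_iff.mpr hb))).trans (hle b (hB.1 hb) hb1)

/-- An equivariant solvable signalizer functor on a connected group with trivial `p'`-core is trivial. -/
theorem eq_bot_of_connected (hO : Cfsg.pPrimeCore p G = ⊥) (hconn : Cfsg.IsRankGraphConnected p 2 G)
    (hC : ∀ a : G, (orderOf a = p ∧ ¬ Cfsg.PRankLE p 2 ↥(centralizer ({a} : Set G))) →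
      θ a ≤ centralizer ({a} : Set G) ∧ ¬ p ∣ Nat.card ↥(θ a) ∧ Group.IsSolvable ↥(θ a))
    (heq : ∀ a g : G, (orderOf a = p ∧ ¬ Cfsg.PRankLE p 2 ↥(centralizer ({a} : Set G))) →
      θ (g * a * g⁻¹) = (θ a).map (MulAut.conj g).toMonoidHom)
    (hbal : ∀ a b : G, (orderOf a = p ∧ ¬ Cfsg.PRankLE p 2 ↥(centralizer ({a} : Set G))) →
      (orderOf b = p ∧ ¬ Cfsg.PRankLE p 2 ↥(centralizer ({b} : Set G))) →
      a * b = b * a → θ a ⊓ centralizer {b} ≤ θ b)
    {a : G} (ha : orderOf a = p) (hra : ¬ Cfsg.PRankLE p 2 ↥(centralizer ({a} : Set G))) : θ a = ⊥ := by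
  -- large elementary abelian subgroups
  have hbig : ∀ {B : Subgroup G}, Cfsg.IsElementaryAbelian p B → p ^ 3 ≤ Nat.card B →
      ¬ Cfsg.PRankLE p 2 ↥(centralizer (B : Set G)) ∧
      ∀ b ∈ B, b ≠ 1 → (orderOf b = p ∧ ¬ Cfsg.PRankLE p 2 ↥(centralizer ({b} : Set G))) := by
    intro B hB hB3
    haveI := hB.1
    have hgen : ∀ {H : Subgroup G}, B ≤ H → ¬ Cfsg.PRankLE p 2 H := by
      intro H hBH hle
      have h1 := hle (B.subgroupOf H) ⟨⟨fun x y => Subtype.ext (Subtype.ext
        (setLike_mul_comm (s := B) x.2 y.2))⟩⟩ fun x hx => Subtype.ext (hB.2 x hx)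
      rw [Nat.card_congr (subgroupOfEquivOfLe hBH).toEquiv] at h1
      exact absurd (hB3.trans h1) (by
        simpa using (Nat.pow_lt_pow_right hp.out.one_lt (by norm_num : 2 < 3)))
    have hBc : B ≤ centralizer (B : Set G) := le_centralizer_iff_isMulCommutative.mpr hB.1
    exact ⟨hgen hBc, fun b hb hb1 => ⟨orderOf_eq_prime (hB.2 b hb) hb1,
      hgen (hBc.trans (centralizer_le (Set.singleton_subset_iff.mpr hb)))⟩⟩
  have hsetup : ∀ {B : Subgroup G}, Cfsg.IsElementaryAbelian p B → p ^ 3 ≤ Nat.card B → Setup p B θ := by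
    intro B hB hB3
    haveI := hB.1
    have h1 := (hbig hB hB3).2
    refine ⟨hB, hB3, ⟨fun b hb hb1 => (hC b (h1 b hb hb1)).1, fun b hb hb1 => (hC b (h1 b hb hb1)).2.1,
      fun b hb hb1 c hc x hx => ?_, fun b hb hb1 c hc hc1 => hbal b c (h1 b hb hb1) (h1 c hc hc1)
        (setLike_mul_comm hb hc)⟩, fun b hb hb1 => (hC b (h1 b hb hb1)).2.2⟩
    have h2 := heq b c (h1 b hb hb1)
    rw [setLike_mul_comm hc hb, mul_inv_cancel_right] at h2
    rw [h2]
    exact ⟨x, hx, rfl⟩
  -- an elementary abelian subgroup of rank three commuting with a given one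
  have hext : ∀ {E : Subgroup G}, Cfsg.IsElementaryAbelian p E → ¬ Cfsg.PRankLE p 2 ↥(centralizer (E : Set G)) →
      ∃ B : Subgroup G, E ≤ B ∧ Cfsg.IsElementaryAbelian p B ∧ p ^ 3 ≤ Nat.card B := by
    intro E hE hr
    simp only [Cfsg.PRankLE, not_forall, not_le] at hr
    obtain ⟨F, hF, hFp, hFc⟩ := hr
    set F' := F.map (centralizer (E : Set G)).subtype
    have hF'c : F' ≤ centralizer (E : Set G) := map_subtype_le _
    refine ⟨E ⊔ F', le_sup_left, ?_, ?_⟩
    · haveI := hE.1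
      haveI := hF
      have hcomm : ∀ x ∈ E ⊔ F', ∀ y ∈ E ⊔ F', x * y = y * x := by
        have hE' : E ⊔ F' ≤ centralizer ((E ⊔ F' : Subgroup G) : Set G) := by
          have hFF : F' ≤ centralizer (F' : Set G) := by
            rintro _ ⟨x, hx, rfl⟩
            refine mem_centralizer_iff.mpr ?_
            rintro _ ⟨y, hy, rfl⟩
            exact congrArg (Subgroup.subtype _) (setLike_mul_comm hy hx)
          refine sup_le ?_ ?_ <;> rw [le_centralizer_iff] <;> refine sup_le ?_ ?_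
          · exact le_centralizer_iff_isMulCommutative.mpr hE.1
          · exact hF'c
          · exact le_centralizer_iff.mp hF'c
          · exact hFF
        exact fun x hx y hy => mem_centralizer_iff.mp (hE' hy) x hx
      refine ⟨⟨⟨fun x y => Subtype.ext (hcomm x x.2 y y.2)⟩⟩, fun x hx => ?_⟩
      obtain ⟨e, he, f, hf, rfl⟩ := Coprime.exists_mul_of_mem_sup
        (hF'c.trans (centralizer_le_normalizer _)) hx
      obtain ⟨f', hf', rfl⟩ := hf
      rw [(show Commute e _ from hcomm e (mem_sup_left he) _ (mem_sup_right (mem_map_of_mem _ hf'))).mul_pow,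
        hE.2 e he, one_mul, ← map_pow, hFp f' hf', map_one]
    · refine le_trans ?_ (card_le_of_le (le_sup_right : F' ≤ E ⊔ F'))
      rw [card_map_of_injective (centralizer (E : Set G)).subtype_injective]
      obtain ⟨k, hk⟩ := IsPGroup.iff_card.mp (show IsPGroup p F from fun x => ⟨1, Subtype.ext (by
        simpa using hFp x x.2)⟩)
      rw [hk] at hFc ⊢
      exact Nat.pow_le_pow_right hp.out.pos ((Nat.pow_lt_pow_iff_right hp.out.one_lt).mp hFc)
  set W : Subgroup G → Subgroup G := fun E => ⨆ x : {x : G // x ∈ E ∧ x ≠ 1}, θ x with hW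
  have hstep : ∀ {E F : Subgroup G}, Cfsg.IsRankGraphVertex p 2 E → Cfsg.IsRankGraphVertex p 2 F →
      (∀ x ∈ E, ∀ y ∈ F, x * y = y * x) → W E = W F := by
    intro E F hE hF hEF
    have hEFc : F ≤ centralizer (E : Set G) := fun y hy => mem_centralizer_iff.mpr fun x hx => hEF x hx y hy
    have hsup : Cfsg.IsElementaryAbelian p (E ⊔ F : Subgroup G) := by
      haveI := hE.1.1
      haveI := hF.1.1
      have h1 : ∀ x ∈ E ⊔ F, ∀ y ∈ E ⊔ F, x * y = y * x := by
        have hE' : E ⊔ F ≤ centralizer ((E ⊔ F : Subgroup G) : Set G) := by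
          refine sup_le ?_ ?_ <;> rw [le_centralizer_iff] <;> refine sup_le ?_ ?_
          · exact le_centralizer_iff_isMulCommutative.mpr hE.1.1
          · exact hEFc
          · exact le_centralizer_iff.mp hEFc
          · exact le_centralizer_iff_isMulCommutative.mpr hF.1.1
        exact fun x hx y hy => mem_centralizer_iff.mp (hE' hy) x hx
      refine ⟨⟨⟨fun x y => Subtype.ext (h1 x x.2 y y.2)⟩⟩, fun x hx => ?_⟩
      obtain ⟨e, he, f, hf, rfl⟩ := Coprime.exists_mul_of_mem_sup (hEFc.trans (centralizer_le_normalizer _)) hx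
      rw [(show Commute e f from hEF e he f hf).mul_pow, hE.1.2 e he, hF.1.2 f hf, one_mul]
    by_cases h3 : p ^ 3 ≤ Nat.card (E ⊔ F : Subgroup G)
    · simp only [hW]
      rw [(hsetup hsup h3).closure_eq le_sup_left hE.2.1, (hsetup hsup h3).closure_eq le_sup_right hF.2.1]
    · obtain ⟨k, hk⟩ := IsPGroup.iff_card.mp (Sig.isPGroup_of_elementaryAbelian hsup)
      rw [hk] at h3
      have hk2 : k ≤ 2 := by
        by_contra hk2
        exact h3 (Nat.pow_le_pow_right hp.out.pos (by omega))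
      have hle : Nat.card (E ⊔ F : Subgroup G) ≤ p ^ 2 := hk.le.trans (Nat.pow_le_pow_right hp.out.pos hk2)
      rw [eq_of_le_of_card_ge (le_sup_left : E ≤ E ⊔ F) (hle.trans hE.2.1)]
      conv_rhs => rw [eq_of_le_of_card_ge (le_sup_right : F ≤ E ⊔ F) (hle.trans hF.2.1)]
  have hconst : ∀ {E F : Subgroup G}, Cfsg.IsRankGraphVertex p 2 E → Cfsg.IsRankGraphVertex p 2 F → W E = W F := by
    intro E F hE hF
    exact Relation.ReflTransGen.head_induction_on (hconn E F hE hF) rfl
      fun h _ ih => (hstep h.1 h.2.1 h.2.2).trans ih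
  have hcyc : Cfsg.IsElementaryAbelian p (zpowers a) := by
    refine ⟨inferInstance, fun x hx => ?_⟩
    obtain ⟨i, rfl⟩ := mem_zpowers_iff.mp hx
    rw [← zpow_natCast, ← zpow_mul, mul_comm, zpow_mul, zpow_natCast, ← ha, pow_orderOf_eq_one, one_zpow]
  obtain ⟨B, haB, hB, hB3⟩ := hext hcyc (by rwa [Local.FreeAction.centralizer_zpowers_eq])
  have hB2 : p ^ 2 ≤ Nat.card B := (Nat.pow_le_pow_right hp.out.pos (by norm_num)).trans hB3
  have hv : Cfsg.IsRankGraphVertex p 2 B := ⟨hB, hB2, (hbig hB hB3).1⟩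
  have hWn : (W B).Normal := by
    refine ⟨fun x hx g => ?_⟩
    set c := (MulAut.conj g).toMonoidHom
    have hinj : Function.Injective c := (MulAut.conj g).injective
    have hgB : Cfsg.IsElementaryAbelian p (B.map c) := by
      haveI := hB.1
      refine ⟨⟨⟨?_⟩⟩, ?_⟩
      · rintro ⟨_, x, hx, rfl⟩ ⟨_, y, hy, rfl⟩
        exact Subtype.ext (show c x * c y = c y * c x by rw [← map_mul, ← map_mul, setLike_mul_comm hx hy])
      · rintro _ ⟨x, hx, rfl⟩
        rw [← map_pow, hB.2 x hx, map_one]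
    have hgB3 : p ^ 3 ≤ Nat.card (B.map c) := by rwa [card_map_of_injective hinj]
    have hmap : (W B).map c ≤ W (B.map c) := by
      simp only [hW, Subgroup.map_iSup]
      refine iSup_le fun b => ?_
      refine le_trans (le_of_eq (heq b g ((hbig hB hB3).2 b b.2.1 b.2.2)).symm)
        (le_iSup_of_le ⟨c b, mem_map_of_mem c b.2.1, fun e => b.2.2 (hinj (e.trans (map_one c).symm))⟩ le_rfl)
    have h1 := hmap (mem_map_of_mem c hx)
    rwa [hconst (F := B) ⟨hgB, by rwa [card_map_of_injective hinj], (hbig hgB hgB3).1⟩ hv] at h1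
  have hWp : ¬ p ∣ Nat.card (W B) := (hsetup hB hB3).closure_mem.2.1
  have hW1 : W B = ⊥ :=
    eq_bot_iff.mpr ((Core.le_pPrimeCore' hWn (Core.coprime_iff_not_dvd'.2 hWp)).trans hO.le)
  refine eq_bot_iff.mpr (hW1 ▸ ?_)
  exact le_iSup (fun x : {x : G // x ∈ B ∧ x ≠ 1} => θ x)
    ⟨a, haB (mem_zpowers a), fun e => by rw [e, orderOf_one] at ha; exact hp.out.ne_one ha.symm⟩

end Cfsg.Lib.Sig.SSFT
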