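import Cfsg.Agent.Lib.Sig.SSFT.Tools
import Cfsg.Agent.Lib.Solv.Hall

/-!
# Coprime action lemmas for the solvable signalizer functor theorem

Generation of `[X, x]` by fixed points, invariant Hall subgroups of a solvable group, lifting of centralizers, and
elementary facts about the subgroups of index at most `p` of an elementary abelian group.
-/

set_option autoImplicit false
set_option linter.style.haveILetI false

namespace Cfsg.Lib.Sig.SSFT

open Subgroup
open scoped commutatorElement Pointwise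

universe u

variable {G : Type u} [Group G]

/-- The three subgroup lemma modulo a subgroup normalized by the three subgroups. -/
theorem rotate_le {H₁ H₂ H₃ N : Subgroup G} (n₁ : H₁ ≤ normalizer (N : Set G))
    (n₂ : H₂ ≤ normalizer (N : Set G)) (n₃ : H₃ ≤ normalizer (N : Set G))
    (h1 : ⁅⁅H₂, H₃⁆, H₁⁆ ≤ N) (h2 : ⁅⁅H₃, H₁⁆, H₂⁆ ≤ N) : ⁅⁅H₁, H₂⁆, H₃⁆ ≤ N := by
  set L := normalizer (N : Set G)
  have key : ∀ {A B C : Subgroup G}, A ≤ L → B ≤ L → C ≤ L →
      (⁅⁅A.subgroupOf L, B.subgroupOf L⁆, C.subgroupOf L⁆ ≤ N.subgroupOf L ↔ ⁅⁅A, B⁆, C⁆ ≤ N) := by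
    intro A B C hA hB hC
    rw [← map_le_map_iff_of_injective L.subtype_injective, map_commutator, map_commutator,
      map_subgroupOf_eq_of_le hA, map_subgroupOf_eq_of_le hB, map_subgroupOf_eq_of_le hC,
      map_subgroupOf_eq_of_le (le_normalizer : N ≤ L)]
  haveI : (N.subgroupOf L).Normal := subgroupOf_normal le_normalizer le_rfl
  rw [← key n₁ n₂ n₃]
  rw [← key n₂ n₃ n₁] at h1
  rw [← key n₃ n₁ n₂] at h2
  have e : ∀ K : Subgroup L, K ≤ N.subgroupOf L ↔ K.map (QuotientGroup.mk' (N.subgroupOf L)) = ⊥ :=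
    fun K => by rw [Subgroup.map_eq_bot_iff, QuotientGroup.ker_mk']
  rw [e, map_commutator, map_commutator] at h1 h2 ⊢
  exact commutator_commutator_eq_bot_of_rotate h1 h2

/-- Conjugation invariance read as membership in a normalizer. -/
theorem le_normalizer_commutator_left {A P Z : Subgroup G} (hA : A ≤ normalizer (Z : Set G))
    (hP : A ≤ centralizer (P : Set G)) : A ≤ normalizer ((⁅Z, P⁆ : Subgroup G) : Set G) :=
  Coprime.le_normalizer_commutator_of_commute hA hP

theorem le_centralizer_zpowers {A : Subgroup G} {x : G} (hx : x ∈ centralizer (A : Set G)) :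
    A ≤ centralizer ((zpowers x : Subgroup G) : Set G) :=
  le_centralizer_iff.mp (zpowers_le.mpr hx)

theorem abelian_le_normalizer {A B : Subgroup G} [IsMulCommutative A] (hB : B ≤ A) :
    A ≤ normalizer (B : Set G) := by
  refine le_trans ?_ (centralizer_le_normalizer (B : Set G))
  exact fun a ha => mem_centralizer_iff.mpr fun b hb => setLike_mul_comm (hB hb) ha

theorem isSolvable_zpowers (x : G) : Group.IsSolvable (zpowers x) :=
  Group.isSolvable_of_comm fun a b => mul_comm' a b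

variable [Finite G]

/-- `[X, x]` is generated by the `[C_X(B), x]` for `B` of index at most `p` in `A`, when `x` centralizes `A`. -/
theorem commutator_zpowers_le_iSup {A : Subgroup G} [IsMulCommutative A] {x : G}
    (hxA : x ∈ centralizer (A : Set G)) : ∀ X : Subgroup G, Group.IsSolvable X →
      A ≤ normalizer (X : Set G) → (Nat.card A).Coprime (Nat.card X) → x ∈ normalizer (X : Set G) →
      (orderOf x).Coprime (Nat.card X) →
      ⁅X, zpowers x⁆ ≤ ⨆ B ∈ Coprime.cocyclic A, ⁅X ⊓ centralizer (B : Set G), zpowers x⁆ := by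
  intro X
  induction X using WellFoundedLT.induction with
  | ind X ih =>
  intro hX hAX hcop hxX hxcop
  set P : Subgroup G := zpowers x
  have hPX : P ≤ normalizer (X : Set G) := zpowers_le.mpr hxX
  have hPA : A ≤ centralizer (P : Set G) := le_centralizer_zpowers hxA
  have hPcop : (Nat.card P).Coprime (Nat.card X) := by rwa [Nat.card_zpowers]
  set Y := ⨆ B ∈ Coprime.cocyclic A, ⁅X ⊓ centralizer (B : Set G), P⁆ with hY
  have hmono : ∀ N : Subgroup G, N < X → A ≤ normalizer (N : Set G) → P ≤ normalizer (N : Set G) →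
      ⁅N, P⁆ ≤ Y := fun N hN hAN hPN => by
    refine (ih N hN (Coprime.isSolvable_of_le hN.le hX) hAN (Coprime.coprime_of_le hN.le hcop)
      (hPN (mem_zpowers x)) (hxcop.coprime_dvd_right (card_dvd_of_le hN.le))).trans
      (iSup₂_mono fun B _ => commutator_mono (inf_le_inf_right _ hN.le) le_rfl)
  rcases lt_or_eq_of_le (Coprime.commutator_le_of_le_normalizer hPX) with hlt | hXP
  · rw [← Coprime.commutator_commutator_eq hPX hPcop (Or.inl (isSolvable_zpowers x))]
    exact hmono _ hlt (le_normalizer_commutator_left hAX hPA) (normalizer_commutator_ge_right X P)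
  rw [hXP]
  -- now `X = [X, x]`
  by_contra hXY
  have hYX : Y ≤ X := iSup₂_le fun B _ =>
    (commutator_mono inf_le_left le_rfl).trans (Coprime.commutator_le_of_le_normalizer hPX)
  have hBinv : ∀ B ∈ Coprime.cocyclic A, A ≤ normalizer ((X ⊓ centralizer (B : Set G) : Subgroup G) : Set G) ∧
      P ≤ normalizer ((X ⊓ centralizer (B : Set G) : Subgroup G) : Set G) := fun B hB => by
    refine ⟨Coprime.le_normalizer_inf_centralizer hAX (abelian_le_normalizer hB.1), ?_⟩
    refine (le_inf hPX ?_).trans (inf_normalizer_le_normalizer_inf _ _)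
    refine le_trans (fun y hy => ?_) le_normalizer
    exact mem_centralizer_iff.mpr fun b hb =>
      (mem_centralizer_iff.mp (hPA (hB.1 hb)) y hy).symm
  have hYinv : ∀ Q : Subgroup G, (∀ B ∈ Coprime.cocyclic A,
      Q ≤ normalizer ((⁅X ⊓ centralizer (B : Set G), P⁆ : Subgroup G) : Set G)) →
      Q ≤ normalizer (Y : Set G) := by
    intro Q hQ
    refine le_trans ?_ (iInf_normalizer_le_normalizer_iSup _)
    refine le_iInf fun B => ?_
    by_cases hB : B ∈ Coprime.cocyclic A
    · rw [show (⨆ (_ : B ∈ Coprime.cocyclic A), ⁅X ⊓ centralizer (B : Set G), P⁆) =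
        ⁅X ⊓ centralizer (B : Set G), P⁆ from iSup_pos hB]
      exact hQ B hB
    · rw [show (⨆ (_ : B ∈ Coprime.cocyclic A), ⁅X ⊓ centralizer (B : Set G), P⁆) = ⊥ from iSup_neg hB]
      exact le_normalizer_of_normal
  have hAY : A ≤ normalizer (Y : Set G) :=
    hYinv A fun B hB => le_normalizer_commutator_left (hBinv B hB).1 hPA
  have hPY : P ≤ normalizer (Y : Set G) := hYinv P fun B _ => normalizer_commutator_ge_right _ _
  set C := X ⊓ centralizer (P : Set G)
  have hXC : X ≤ Y ⊔ C := by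
    refine (Coprime.le_iSup_centralizer_cocyclic X hAX hcop).trans (iSup₂_le fun B hB => ?_)
    rw [← Coprime.commutator_sup_centralizer_eq (hBinv B hB).2
      (hPcop.coprime_dvd_right (card_dvd_of_le inf_le_left)) (Or.inl (isSolvable_zpowers x))]
    exact sup_le_sup (le_iSup₂ (f := fun B (_ : B ∈ Coprime.cocyclic A) =>
      ⁅X ⊓ centralizer (B : Set G), P⁆) B hB) (inf_le_inf_right _ inf_le_left)
  obtain ⟨N, ⟨hNX, hXN, hAN, hPN, hsup⟩, hmin⟩ := (Set.toFinite {N : Subgroup G | N ≤ X ∧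
    X ≤ normalizer (N : Set G) ∧ A ≤ normalizer (N : Set G) ∧ P ≤ normalizer (N : Set G) ∧
    Y ⊔ N = X}).exists_minimal ⟨X, le_rfl, le_normalizer, hAX, hPX, sup_eq_right.mpr hYX⟩
  have hNne : N ≠ ⊥ := fun h => by
    subst h; rw [sup_bot_eq] at hsup; exact hXY hsup.ge
  have hN' : ⁅N, N⁆ < N := by
    haveI := Coprime.isSolvable_of_le hNX hX
    haveI : Nontrivial N := (nontrivial_iff_ne_bot N).mpr hNne
    refine lt_of_le_of_ne (commutator_le_self N) fun he => ?_
    have h1 : commutator N = ⊤ := map_injective N.subtype_injective (by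
      rw [map_subtype_commutator, ← MonoidHom.range_eq_map, range_subtype, he])
    exact absurd h1 (Group.IsSolvable.commutator_lt_top_of_nontrivial N).ne
  have hN'inv : ∀ {Q : Subgroup G}, Q ≤ normalizer (N : Set G) →
      Q ≤ normalizer ((⁅N, N⁆ : Subgroup G) : Set G) := fun {Q} hQ g hg => by
    rw [mem_normalizer_iff_map_conj_eq, map_commutator, mem_normalizer_iff_map_conj_eq.mp (hQ hg)]
  set M := Y ⊔ ⁅N, N⁆ with hM
  have hMX : M ≤ X := sup_le hYX (((commutator_le_self N)).trans hNX)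
  have hMne : M ≠ X := fun he => hN'.not_ge (hmin (show ⁅N, N⁆ ∈ {N : Subgroup G | N ≤ X ∧ _} from
    ⟨(commutator_le_self N).trans hNX, hN'inv hXN, hN'inv hAN, hN'inv hPN, he⟩) hN'.le)
  have hPM : P ≤ normalizer (M : Set G) :=
    (le_inf hPY (hN'inv hPN)).trans (inf_normalizer_le_normalizer_sup _ _)
  have hXNM : ⁅X, N⁆ ≤ M := by
    rcases lt_or_eq_of_le hNX with hlt | rfl
    · have hNP : ⁅N, P⁆ ≤ M ⊓ N := le_inf ((hmono N hlt hAN hPN).trans le_sup_left)
        (Coprime.commutator_le_of_le_normalizer hPN)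
      have hN'K : ⁅N, N⁆ ≤ M ⊓ N := le_inf le_sup_right (commutator_le_self N)
      have hXK : X ≤ normalizer ((M ⊓ N : Subgroup G) : Set G) := by
        rw [← hsup]
        refine sup_le ((le_inf ((le_sup_left : Y ≤ M).trans le_normalizer) (hYX.trans hXN)).trans
          (inf_normalizer_le_normalizer_inf _ _)) ?_
        rw [le_normalizer_iff_commutator_le_left]
        exact (commutator_mono inf_le_right le_rfl).trans hN'K
      have hPK : P ≤ normalizer ((M ⊓ N : Subgroup G) : Set G) :=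
        (le_inf hPM hPN).trans (inf_normalizer_le_normalizer_inf _ _)
      have h3 := rotate_le hPK hXK (hNX.trans hXK)
        ((commutator_mono ((commutator_comm X N).le.trans (Coprime.commutator_le_of_le_normalizer hXN))
          le_rfl).trans hNP)
        ((commutator_mono hNP le_rfl).trans (le_normalizer_iff_commutator_le_left.mp hXK))
      rw [commutator_comm P X, hXP] at h3
      exact h3.trans inf_le_left
    · exact le_sup_right
  have hXM : X ≤ normalizer (M : Set G) := by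
    rw [← hsup]
    refine sup_le ((le_sup_left : Y ≤ M).trans le_normalizer) ?_
    rw [le_normalizer_iff_commutator_le_left]
    exact (commutator_mono hMX le_rfl).trans hXNM
  refine hMne (le_antisymm hMX ?_)
  conv_lhs => rw [← hXP]
  rw [commutator_le]
  intro g hg u hu
  have hCM : C ≤ normalizer (M : Set G) := inf_le_left.trans hXM
  obtain ⟨m, hm, c, hc, rfl⟩ := Coprime.exists_mul_of_mem_sup hCM
    ((hXC.trans (sup_le_sup_right le_sup_left _)) hg)
  rw [show ⁅m * c, u⁆ = ⁅m, u⁆ from ?_]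
  · exact Coprime.commutator_le_of_le_normalizer hPM (commutator_mem_commutator hm hu)
  · have hcu : c * u * c⁻¹ = u := by
      rw [mul_inv_eq_iff_eq_mul]; exact (mem_centralizer_iff.mp hc.2 u hu).symm
    calc ⁅m * c, u⁆ = m * (c * u * c⁻¹) * m⁻¹ * u⁻¹ := by rw [commutatorElement_def]; group
      _ = _ := by rw [hcu, commutatorElement_def]

/-- A group with a fixed-point action: `g` is `W C(D)` if it centralizes `D` modulo `W`. -/
theorem exists_mul_centralizer {W D : Subgroup G} {g : G} (hDW : D ≤ normalizer (W : Set G))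
    (hcop : (Nat.card D).Coprime (Nat.card W)) (hsol : Group.IsSolvable D ∨ Group.IsSolvable W)
    (h : ∀ d ∈ D, ⁅g, d⁆ ∈ W) : ∃ n ∈ W, ∃ c ∈ centralizer (D : Set G), g = n * c := by
  have hB : D.map (MulAut.conj g).toMonoidHom ≤ W ⊔ D := by
    rintro _ ⟨a, ha, rfl⟩
    simp only [MulEquiv.coe_toMonoidHom, MulAut.conj_apply,
      show g * a * g⁻¹ = ⁅g, a⁆ * a by simp [commutatorElement_def, mul_assoc]]
    exact Subgroup.mul_mem_sup (h a ha) ha
  obtain ⟨n, hn, hBn⟩ := Coprime.exists_conj_of_coprime W D _ hDW hcop hsol hB (Coprime.card_map_conj _ _)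
  refine ⟨n, hn, n⁻¹ * g, ?_, by simp⟩
  refine Coprime.mem_centralizer_of_forall_commutatorElement_eq_one fun d hd => ?_
  have h1 : g * d * g⁻¹ ∈ D.map (MulAut.conj n).toMonoidHom := hBn ▸ ⟨d, hd, rfl⟩
  rw [Coprime.mem_map_conj_iff] at h1
  refine disjoint_def.mp (Coprime.disjoint_of_coprime_card hcop) (x := ⁅n⁻¹ * g, d⁆) ?_ ?_
  · rw [commutatorElement_def]
    refine mul_mem ?_ (inv_mem hd)
    simpa [mul_assoc] using h1
  · rw [show ⁅n⁻¹ * g, d⁆ = n⁻¹ * ⁅g, d⁆ * (d * n * d⁻¹) by rw [commutatorElement_def, commutatorElement_def]; group]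
    exact mul_mem (mul_mem (inv_mem hn) (h d hd)) ((mem_normalizer_iff.mp (hDW hd) n).mp hn)

/-- An `A`-invariant `t'`-subgroup of a solvable `H` lies in an `A`-invariant Hall `t'`-subgroup. -/
theorem exists_invariant_hall_ge {t : ℕ} [ht : Fact t.Prime] {A H S : Subgroup G} [IsMulCommutative A]
    (hH : Group.IsSolvable H) (hAH : A ≤ normalizer (H : Set G)) (hcop : (Nat.card A).Coprime (Nat.card H))
    {m e : ℕ} (hme : Nat.card H = m * t ^ e) (hm : ¬ t ∣ m) (hSH : S ≤ H) (hS : ¬ t ∣ Nat.card S)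
    (hAS : A ≤ normalizer (S : Set G)) :
    ∃ K : Subgroup G, K ≤ H ∧ Nat.card K = m ∧ A ≤ normalizer (K : Set G) ∧ S ≤ K := by
  haveI := hH
  set L := H ⊔ A with hL
  have hHL : H ≤ L := le_sup_left
  have hAL : A ≤ L := le_sup_right
  have hd : Disjoint H A := (Coprime.disjoint_of_coprime_card hcop).symm
  have hcardL : Nat.card L = m * Nat.card A * t ^ e := by
    rw [hL, Coprime.card_sup_of_disjoint hAH hd, hme]; ring
  haveI : (H.subgroupOf L).Normal := subgroupOf_normal hHL (sup_le le_normalizer hAH)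
  haveI : Group.IsSolvable L := by
    haveI : Group.IsSolvable (H.subgroupOf L) :=
      Group.isSolvable_of_isSolvable_injective (f := (subgroupOfEquivOfLe hHL).toMonoidHom)
        (subgroupOfEquivOfLe hHL).injective
    haveI : Group.IsSolvable (L ⧸ H.subgroupOf L) := by
      haveI : Group.IsSolvable A := Group.isSolvable_of_comm fun a b => mul_comm' a b
      refine Group.isSolvable_of_surjective (f := (QuotientGroup.mk' (H.subgroupOf L)).comp (inclusion hAL))
        fun q => ?_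
      obtain ⟨⟨x, hx⟩, rfl⟩ := QuotientGroup.mk'_surjective _ q
      obtain ⟨h, hh, a, ha, rfl⟩ := Coprime.exists_mul_of_mem_sup hAH hx
      refine ⟨⟨a, ha⟩, (QuotientGroup.eq.mpr ?_)⟩
      rw [mem_subgroupOf]
      show a⁻¹ * (h * a) ∈ H
      rw [← mul_assoc]
      exact (mem_normalizer_iff''.mp (hAH ha) h).mp hh
    exact (Group.isSolvable_iff_subgroup_quotient (H.subgroupOf L)).mpr ⟨inferInstance, inferInstance⟩
  have hk : (m * Nat.card A).Coprime (t ^ e) := by
    rcases Nat.eq_zero_or_pos e with rfl | he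
    · simp
    · refine Nat.Coprime.pow_right _ (Nat.Coprime.mul_left ?_ ?_)
      · exact (ht.out.coprime_iff_not_dvd.mpr hm).symm
      · exact hcop.coprime_dvd_right (hme ▸ Dvd.dvd.mul_left (dvd_pow_self t he.ne') m)
  have hdS : Disjoint S A := hd.mono_left hSH
  have hSL : S ⊔ A ≤ L := sup_le_sup_right hSH _
  have hcardS : (Nat.card ((S ⊔ A).subgroupOf L)).Coprime (t ^ e) := by
    rw [Nat.card_congr (subgroupOfEquivOfLe hSL).toEquiv, Coprime.card_sup_of_disjoint hAS hdS]
    rcases Nat.eq_zero_or_pos e with rfl | he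
    · simp
    · refine Nat.Coprime.pow_right _ (Nat.Coprime.mul_left ?_ ?_)
      · exact (ht.out.coprime_iff_not_dvd.mpr hS).symm
      · exact hcop.coprime_dvd_right (hme ▸ Dvd.dvd.mul_left (dvd_pow_self t he.ne') m)
  obtain ⟨W, hW, hSW⟩ := Solv.hall_dominance hcardL hk hcardS
  set V := W.map L.subtype
  have hVL : V ≤ L := map_subtype_le _
  have hVc : Nat.card V = m * Nat.card A := by rw [card_map_of_injective L.subtype_injective, hW]
  have hSAV : S ⊔ A ≤ V := by
    rw [← map_subgroupOf_eq_of_le hSL]; exact map_mono hSW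
  have hAV : A ≤ V := le_sup_right.trans hSAV
  refine ⟨H ⊓ V, inf_le_left, ?_, (le_inf hAH (hAV.trans le_normalizer)).trans
    (inf_normalizer_le_normalizer_inf _ _), le_inf hSH (le_sup_left.trans hSAV)⟩
  have hsup : (H ⊓ V) ⊔ A = V := by
    refine le_antisymm (sup_le inf_le_right hAV) fun x hx => ?_
    obtain ⟨h, hh, a, ha, rfl⟩ := Coprime.exists_mul_of_mem_sup hAH (hVL hx)
    exact mul_mem_sup ⟨hh, by simpa using mul_mem hx (inv_mem (hAV ha))⟩ ha
  have h1 := Coprime.card_sup_of_disjoint ((le_inf hAH (hAV.trans le_normalizer)).trans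
    (inf_normalizer_le_normalizer_inf _ _)) (hd.mono_left (inf_le_left : H ⊓ V ≤ H))
  rw [hsup, hVc] at h1
  exact (Nat.eq_of_mul_eq_mul_right Nat.card_pos h1).symm

/-- A `t'`-subgroup of `H` containing every `A`-invariant `t'`-subgroup normalized by `C_H(A)`. -/
theorem exists_hall {t : ℕ} [ht : Fact t.Prime] {A H : Subgroup G} [IsMulCommutative A]
    (hH : Group.IsSolvable H) (hAH : A ≤ normalizer (H : Set G)) (hcop : (Nat.card A).Coprime (Nat.card H)) :
    ∃ K : Subgroup G, K ≤ H ∧ ¬ t ∣ Nat.card K ∧ A ≤ normalizer (K : Set G) ∧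
      ∀ S : Subgroup G, S ≤ H → ¬ t ∣ Nat.card S → A ≤ normalizer (S : Set G) →
        H ⊓ centralizer (A : Set G) ≤ normalizer (S : Set G) → S ≤ K := by
  haveI := hH
  obtain ⟨e, m, hm, hme⟩ := Nat.exists_eq_pow_mul_and_not_dvd (n := Nat.card H) Nat.card_pos.ne' t ht.out.ne_one
  rw [mul_comm] at hme
  obtain ⟨K, hKH, hK, hAK, -⟩ := exists_invariant_hall_ge (S := ⊥) hH hAH hcop hme hm bot_le
    (by simpa using ht.out.ne_one) le_normalizer_of_normal
  refine ⟨K, hKH, hK ▸ hm, hAK, fun S hSH hS hAS hnorm => ?_⟩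
  obtain ⟨K', hK'H, hK', hAK', hSK'⟩ := exists_invariant_hall_ge hH hAH hcop hme hm hSH hS hAS
  obtain ⟨g, hg⟩ := Solv.hall_conj (G := H) hme (Nat.Coprime.pow_right _ (ht.out.coprime_iff_not_dvd.mpr hm).symm)
    (H := K'.subgroupOf H) (K := K.subgroupOf H)
    (by rw [Nat.card_congr (subgroupOfEquivOfLe hK'H).toEquiv, hK'])
    (by rw [Nat.card_congr (subgroupOfEquivOfLe hKH).toEquiv, hK])
  have hconj : K = K'.map (MulAut.conj (g : G)).toMonoidHom := by
    refine (eq_of_le_of_card_ge ?_ (by rw [hK, Coprime.card_map_conj, hK'])).symm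
    rintro _ ⟨x, hx, rfl⟩
    have h1 : MulAut.conj g • (⟨x, hK'H hx⟩ : H) ∈ MulAut.conj g • K'.subgroupOf H :=
      Subgroup.smul_mem_pointwise_smul _ _ _ hx
    rw [hg] at h1
    exact h1
  obtain ⟨c, hc, he⟩ := Coprime.exists_centralizer_conj hAH hcop (Or.inr hH) hAK' hAK g.2 hconj
  rw [he, ← Coprime.map_conj_eq_self (hnorm hc)]
  exact map_mono hSK'

/-- A subgroup is generated by its invariant Sylow subgroups. -/
theorem le_of_invariant_sylows {A H Y : Subgroup G}
    (hAH : A ≤ normalizer (H : Set G)) (hcop : (Nat.card A).Coprime (Nat.card H))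
    (hsol : Group.IsSolvable A ∨ Group.IsSolvable H)
    (h : ∀ r : ℕ, r.Prime → ∀ P : Subgroup G, P ≤ H → IsPGroup r P → A ≤ normalizer (P : Set G) → P ≤ Y) :
    H ≤ Y := by
  suffices hc : Nat.card H ∣ Nat.card (H ⊓ Y : Subgroup G) from
    (eq_of_le_of_card_ge (inf_le_left : H ⊓ Y ≤ H) (Nat.le_of_dvd Nat.card_pos hc)).ge.trans inf_le_right
  rw [Nat.dvd_iff_prime_pow_dvd_dvd]
  intro r k hr hk
  haveI : Fact r.Prime := ⟨hr⟩
  obtain ⟨P, hP⟩ := Coprime.exists_invariant_sylow hAH hcop hsol r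
  have h1 : r ^ k ∣ Nat.card ((P : Subgroup H).map H.subtype) := by
    rw [card_map_of_injective H.subtype_injective, P.card_eq_multiplicity]
    exact Nat.pow_dvd_pow r ((hr.pow_dvd_iff_le_factorization Nat.card_pos.ne').mp hk)
  exact h1.trans (card_dvd_of_le (le_inf (map_subtype_le _)
    (h r hr _ (map_subtype_le _) (P.2.map _) hP)))

/-! ### Subgroups with cyclic quotient of an elementary abelian group -/

section Cocyclic

variable {p : ℕ} [hp : Fact p.Prime] {A : Subgroup G} [IsMulCommutative A]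

omit [Finite G] in
theorem self_mem_cocyclic (A : Subgroup G) : A ∈ Coprime.cocyclic A :=
  ⟨le_rfl, 1, one_mem A, by simp⟩

omit [Finite G] in
theorem cocyclic_sup_zpowers (hexp : ∀ a ∈ A, a ^ p = 1) {B : Subgroup G} (hB : B ∈ Coprime.cocyclic A)
    {y : G} (hy : y ∈ A) (hyB : y ∉ B) : B ⊔ zpowers y = A := by
  obtain ⟨hBA, a, ha, hBa⟩ := hB
  refine le_antisymm (sup_le hBA (zpowers_le.mpr hy)) ?_
  conv_lhs => rw [← hBa]
  refine sup_le le_sup_left (zpowers_le.mpr ?_)
  obtain ⟨b, hb, c, hc, rfl⟩ := Coprime.exists_mul_of_mem_sup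
    ((zpowers_le.mpr ha).trans (abelian_le_normalizer hBA)) (hBa.ge hy)
  obtain ⟨i, rfl⟩ := mem_zpowers_iff.mp hc
  have hai : a ^ i ∈ B ⊔ zpowers (b * a ^ i) := by
    have := mul_mem (mem_sup_left (T := zpowers (b * a ^ i)) (inv_mem hb))
      (mem_sup_right (S := B) (mem_zpowers (b * a ^ i)))
    simpa using this
  have hi : ¬ (p : ℤ) ∣ i := by
    rintro ⟨j, rfl⟩
    exact hyB (by simpa [zpow_mul, hexp a ha] using hb)
  obtain ⟨u, v, huv⟩ := Int.isCoprime_iff_gcd_eq_one.mpr
    (show Int.gcd i (p : ℤ) = 1 from by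
      rw [Int.gcd_comm, ← Int.natAbs_natCast p]
      exact (hp.out.coprime_iff_not_dvd.mpr fun h => hi (Int.natCast_dvd.mpr h)))
  have : (a ^ i) ^ u = a := by
    have h1 : a ^ (u * i + v * (p : ℤ)) = a := by rw [huv, zpow_one]
    rw [zpow_add, mul_comm v, zpow_mul a (p : ℤ) v, zpow_natCast, hexp a ha, one_zpow, mul_one,
      mul_comm, zpow_mul] at h1
    exact h1
  exact (congrArg (fun z => z ∈ B ⊔ zpowers (b * a ^ i)) this).mp (zpow_mem hai u)

theorem card_le_mul_of_cocyclic (hexp : ∀ a ∈ A, a ^ p = 1) {B : Subgroup G} (hB : B ∈ Coprime.cocyclic A) :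
    Nat.card A ≤ p * Nat.card B := by
  obtain ⟨hBA, a, ha, hBa⟩ := hB
  have hn : zpowers a ≤ normalizer (B : Set G) := (zpowers_le.mpr ha).trans (abelian_le_normalizer hBA)
  by_cases haB : a ∈ B
  · rw [← hBa, sup_eq_left.mpr (zpowers_le.mpr haB)]
    exact Nat.le_mul_of_pos_left _ hp.out.pos
  have ho : orderOf a = p := orderOf_eq_prime (hexp a ha) fun h => haB (h ▸ one_mem B)
  have hd : Disjoint B (zpowers a) := by
    have hdvd := card_dvd_of_le (inf_le_right : B ⊓ zpowers a ≤ zpowers a)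
    rw [Nat.card_zpowers, ho] at hdvd
    rcases (Nat.dvd_prime hp.out).mp hdvd with h | h
    · rwa [disjoint_iff, ← card_eq_one]
    · refine absurd ?_ haB
      have he := eq_of_le_of_card_ge (inf_le_right : B ⊓ zpowers a ≤ zpowers a)
        (by rw [h, Nat.card_zpowers, ho])
      exact (he.ge (mem_zpowers a)).1
  rw [← hBa, Coprime.card_sup_of_disjoint hn hd, Nat.card_zpowers, ho, mul_comm]

theorem cocyclic_ne_bot (hexp : ∀ a ∈ A, a ^ p = 1) (hA2 : p ^ 2 ≤ Nat.card A) {B : Subgroup G}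
    (hB : B ∈ Coprime.cocyclic A) : B ≠ ⊥ := by
  rintro rfl
  have h := card_le_mul_of_cocyclic hexp hB
  rw [card_bot, mul_one] at h
  nlinarith [hp.out.two_le]

theorem cocyclic_inf_ne_bot (hexp : ∀ a ∈ A, a ^ p = 1) (hA3 : p ^ 3 ≤ Nat.card A) {B C : Subgroup G}
    (hB : B ∈ Coprime.cocyclic A) (hC : C ∈ Coprime.cocyclic A) : B ⊓ C ≠ ⊥ := by
  intro h
  have h1 := card_le_mul_of_cocyclic hexp hB
  have h2 := card_le_mul_of_cocyclic hexp hC
  have h3 : Nat.card B * Nat.card C ≤ Nat.card A := by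
    rw [← Coprime.card_sup_of_disjoint (hC.1.trans (abelian_le_normalizer hB.1)) (disjoint_iff.mpr h)]
    exact card_le_of_le (sup_le hB.1 hC.1)
  have h4 : 0 < Nat.card A := Nat.card_pos
  have : Nat.card A * Nat.card A ≤ p ^ 2 * Nat.card A := by
    calc Nat.card A * Nat.card A ≤ (p * Nat.card B) * (p * Nat.card C) := Nat.mul_le_mul h1 h2
      _ = p ^ 2 * (Nat.card B * Nat.card C) := by ring
      _ ≤ _ := Nat.mul_le_mul_left _ h3
  have := Nat.le_of_mul_le_mul_right this h4
  nlinarith [hp.out.two_le, sq_nonneg p]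

omit [Finite G] in
theorem cocyclic_inf_sup_zpowers (hexp : ∀ a ∈ A, a ^ p = 1) {B L : Subgroup G}
    (hB : B ∈ Coprime.cocyclic A) (hL : L ≤ A) {w : G} (hw : w ∈ L) (hwB : w ∉ B) :
    (L ⊓ B) ⊔ zpowers w = L := by
  refine le_antisymm (sup_le inf_le_left (zpowers_le.mpr hw)) fun l hl => ?_
  obtain ⟨b, hb, c, hc, rfl⟩ := Coprime.exists_mul_of_mem_sup
    ((zpowers_le.mpr (hL hw)).trans (abelian_le_normalizer hB.1))
    ((cocyclic_sup_zpowers hexp hB (hL hw) hwB).ge (hL hl))
  exact mul_mem_sup ⟨by simpa using mul_mem hl (inv_mem ((zpowers_le.mpr hw : zpowers w ≤ L) hc)), hb⟩ hc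

end Cocyclic

end Cfsg.Lib.Sig.SSFT
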