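import Cfsg.Agent.Lib.Sig.SSFT.Basic
import Cfsg.Agent.Lib.Sig.KlingerMason.Tools

/-!
# The first reductions

No element of `A` maps every `θ w` into a member by commutation, and every element of `A` moves some core of
every maximal member containing its value.
-/

set_option autoImplicit false
set_option linter.style.haveILetI false
set_option linter.unusedSectionVars false

namespace Cfsg.Lib.Sig.SSFT

open Subgroup
open scoped commutatorElement Pointwise

universe u

variable {G : Type u} [Group G] [Finite G]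

theorem commutator_zpowers_eq_bot {Z : Subgroup G} {x : G} :
    ⁅Z, zpowers x⁆ = ⊥ ↔ Z ≤ centralizer ({x} : Set G) := by
  rw [commutator_eq_bot_iff_le_centralizer, Local.FreeAction.centralizer_zpowers_eq]

theorem not_dvd_card_sup {t : ℕ} [ht : Fact t.Prime] {N L : Subgroup G} (hL : L ≤ normalizer (N : Set G))
    (hN : ¬ t ∣ Nat.card N) (hLt : ¬ t ∣ Nat.card L) : ¬ t ∣ Nat.card (N ⊔ L : Subgroup G) := fun hd => by
  have h1 := KlingerMason.card_sup_mul_inf hL
  rcases (ht.out.dvd_mul).mp (h1 ▸ Dvd.dvd.mul_right hd _) with h | h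
  · exact hN h
  · exact hLt h

theorem isSolvable_sup {N L : Subgroup G} (hN : Group.IsSolvable N) (hL : Group.IsSolvable L)
    (hLN : L ≤ normalizer (N : Set G)) : Group.IsSolvable (N ⊔ L : Subgroup G) := by
  haveI := hN
  haveI := hL
  haveI : (N.subgroupOf (N ⊔ L)).Normal := subgroupOf_normal le_sup_left (sup_le le_normalizer hLN)
  haveI : Group.IsSolvable (N.subgroupOf (N ⊔ L)) :=
    Group.isSolvable_of_isSolvable_injective (f := (subgroupOfEquivOfLe (le_sup_left : N ≤ N ⊔ L)).toMonoidHom)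
      (subgroupOfEquivOfLe le_sup_left).injective
  refine (Group.isSolvable_iff_subgroup_quotient (N.subgroupOf (N ⊔ L))).mpr ⟨inferInstance, ?_⟩
  refine Group.isSolvable_of_surjective
    (f := (QuotientGroup.mk' (N.subgroupOf (N ⊔ L))).comp (inclusion (le_sup_right : L ≤ N ⊔ L))) fun q => ?_
  obtain ⟨⟨x, hx⟩, rfl⟩ := QuotientGroup.mk'_surjective _ q
  obtain ⟨n, hn, l, hl, rfl⟩ := Coprime.exists_mul_of_mem_sup hLN hx
  refine ⟨⟨l, hl⟩, QuotientGroup.eq.mpr ?_⟩
  rw [mem_subgroupOf]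
  show l⁻¹ * (n * l) ∈ N
  rw [← mul_assoc]
  exact (mem_normalizer_iff''.mp (hLN hl) n).mp hn

/-- An operator centralizing the Sylow part of `O_{t',t} (K)` has commutators in `O_{t'} (K)`. -/
theorem commutator_le_pcore' {t : ℕ} [ht : Fact t.Prime] {K : Subgroup G} {x : G}
    (hK : Group.IsSolvable K) (hxK : x ∈ normalizer (K : Set G)) (hcop : (orderOf x).Coprime (Nat.card K))
    (S : Sylow t K) (hxS : x ∈ centralizer (((S : Subgroup K).map K.subtype : Subgroup G) : Set G)) :
    ⁅K, zpowers x⁆ ≤ pcore' t K := by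
  set X := zpowers x
  have hX : X ≤ normalizer (K : Set G) := zpowers_le.mpr hxK
  have hXcop : (Nat.card X).Coprime (Nat.card K) := by rwa [Nat.card_zpowers]
  set P := ppcore t K
  have h1 : ⁅P, X⁆ ≤ pcore' t K := by
    refine commutator_ppcore_le S hX (le_trans (commutator_mono inf_le_right le_rfl) (le_trans (le_of_eq ?_) bot_le))
    rw [commutator_zpowers_eq_bot]
    exact fun s hs => mem_centralizer_singleton_iff.mpr (mem_centralizer_iff.mp hxS s hs)
  have hW : K ≤ normalizer (pcore' t K : Set G) := le_normalizer.trans (le_normalizer_pcore' t K)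
  have hPK : ⁅K, P⁆ ≤ P := by
    rw [commutator_comm]
    exact Coprime.commutator_le_of_le_normalizer (le_normalizer.trans (le_normalizer_ppcore t K))
  have h2 : ⁅P, ⁅K, X⁆⁆ ≤ pcore' t K := by
    have h3 := rotate_le (hX.trans (le_normalizer_pcore' t K)) hW ((ppcore_le t K).trans hW)
      ((commutator_mono hPK le_rfl).trans h1)
      ((commutator_mono h1 le_rfl).trans (Coprime.commutator_le_of_le_normalizer hW))
    rwa [commutator_comm P, commutator_comm K]
  have h4 := le_ppcore_of_commutator hK (Coprime.commutator_le_of_le_normalizer hX) h2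
  rw [← Coprime.commutator_commutator_eq hX hXcop (Or.inr hK)]
  exact (commutator_mono h4 le_rfl).trans h1

variable {p : ℕ} [hp : Fact p.Prime] {A : Subgroup G} {θ : G → Subgroup G}

namespace Setup

variable (hS : Setup p A θ)
include hS

theorem mem_normalizer_of_mem_A {U : Subgroup G} (hU : A ≤ normalizer (U : Set G)) {x : G} (hx : x ∈ A) :
    zpowers x ≤ normalizer (U : Set G) :=
  zpowers_le.mpr (hU hx)

theorem commutator_split {U : Subgroup G} (hA : A ≤ normalizer (U : Set G)) (hU : ¬ p ∣ Nat.card U) {x : G}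
    (hx : x ∈ A) : U = ⁅U, zpowers x⁆ ⊔ (U ⊓ centralizer ({x} : Set G)) := by
  rw [← Local.FreeAction.centralizer_zpowers_eq]
  exact (Coprime.commutator_sup_centralizer_eq (hS.mem_normalizer_of_mem_A hA hx)
    (by rw [Nat.card_zpowers]; exact hS.orderOf_coprime hU hx) (Or.inl (isSolvable_zpowers x))).symm

theorem commutator_idem {U : Subgroup G} (hA : A ≤ normalizer (U : Set G)) (hU : ¬ p ∣ Nat.card U) {x : G}
    (hx : x ∈ A) : ⁅⁅U, zpowers x⁆, zpowers x⁆ = ⁅U, zpowers x⁆ :=
  Coprime.commutator_commutator_eq (hS.mem_normalizer_of_mem_A hA hx)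
    (by rw [Nat.card_zpowers]; exact hS.orderOf_coprime hU hx) (Or.inl (isSolvable_zpowers x))

theorem le_normalizer_commutator {U : Subgroup G} (hA : A ≤ normalizer (U : Set G)) {x : G} (hx : x ∈ A) :
    A ≤ normalizer ((⁅U, zpowers x⁆ : Subgroup G) : Set G) :=
  SSFT.commutator_le_normalizer hA (hS.le_normalizer_zpowers hx)

theorem commutator_le {U : Subgroup G} (hA : A ≤ normalizer (U : Set G)) {x : G} (hx : x ∈ A) :
    ⁅U, zpowers x⁆ ≤ U :=
  Coprime.commutator_le_of_le_normalizer (hS.mem_normalizer_of_mem_A hA hx)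

end Setup

namespace MC

variable (h : MC p A θ)
include h

/-- No element of `A` maps every value into a member by commutation. -/
theorem star {x : G} (hx : x ∈ A) (hx1 : x ≠ 1) {U : Subgroup G} (hU : U ∈ Fam p A θ)
    (hxU : ∀ w ∈ A, w ≠ 1 → ⁅θ w, zpowers x⁆ ≤ U) : False := by
  have hS := h.toSetup
  haveI := hS.comm
  set J := ⁅U, zpowers x⁆
  have hAU := hS.le_normalizer_mem hU
  have hJU : J ≤ U := hS.commutator_le hAU hx
  have hAJ := hS.le_normalizer_commutator hAU hx
  have hJ : J ∈ Fam p A θ := hS.mem_of_le hU hJU hAJ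
  have hwJ : ∀ w ∈ A, w ≠ 1 → ⁅θ w, zpowers x⁆ ≤ J := fun w hw hw1 => by
    rw [← hS.commutator_idem (hS.le_normalizer_theta hw hw1) (hS.func.1.2.1 w hw hw1) hx]
    exact commutator_mono (hxU w hw hw1) le_rfl
  by_cases hJ1 : J = ⊥
  · refine h.incomplete ⟨θ x, hS.theta_mem hx hx1, fun w hw hw1 => ?_⟩
    exact (le_inf le_rfl (commutator_zpowers_eq_bot.mp (eq_bot_iff.mpr (hJ1 ▸ hwJ w hw hw1)))).trans
      (hS.balance hw hw1 hx hx1)
  refine h.noInv J hJ hJ1 fun w hw hw1 => ?_
  rw [hS.commutator_split (hS.le_normalizer_theta hw hw1) (hS.func.1.2.1 w hw hw1) hx]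
  refine sup_le ((hwJ w hw hw1).trans le_normalizer) ?_
  refine hS.le_of_cocyclic (inf_le_normalizer (hS.le_normalizer_theta hw hw1)
    (hS.le_normalizer_centralizer_singleton hx))
    (fun hd => hS.func.1.2.1 w hw hw1 (hd.trans (card_dvd_of_le inf_le_left))) fun B hB => ?_
  set L := B ⊔ zpowers x with hL
  have hLA : L ≤ A := sup_le hB.1 (zpowers_le.mpr hx)
  haveI : IsMulCommutative L :=
    ⟨⟨fun a b => Subtype.ext (setLike_mul_comm (hLA a.2) (hLA b.2))⟩⟩
  have hLcop : (Nat.card L).Coprime (Nat.card J) := (hS.coprime hJ.2.1).coprime_dvd_left (card_dvd_of_le hLA)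
  have hL2 : p ^ 2 ≤ Nat.card L := by
    have h1 := card_le_mul_of_cocyclic hS.exp hB
    have h2 : Nat.card B ≤ Nat.card L := card_le_of_le le_sup_left
    have h3 := hS.rank
    exact (Nat.le_of_mul_le_mul_left (by rw [← pow_succ']; exact h3.trans h1) hp.out.pos).trans h2
  refine le_normalizer_of_iSup (T := fun C : Subgroup G => ⨆ _ : C ∈ Coprime.cocyclic L,
    ⁅J ⊓ centralizer (C : Set G), zpowers x⁆) ?_ fun g hg C y hy => ?_
  · conv_lhs => rw [show J = ⁅J, zpowers x⁆ from (hS.commutator_idem hAU hU.2.1 hx).symm]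
    exact commutator_zpowers_le_iSup (A := L) (centralizer_le (SetLike.coe_subset_coe.mpr hLA)
      (hS.mem_centralizer_A hx)) J hJ.1 (hLA.trans hAJ) hLcop (hAJ hx) (hS.orderOf_coprime hJ.2.1 hx)
  · by_cases hC : C ∈ Coprime.cocyclic L
    · rw [iSup_pos hC] at hy
      obtain ⟨l, hl, hl1⟩ : ∃ l ∈ C, l ≠ 1 := C.bot_or_exists_ne_one.resolve_left
        (cocyclic_ne_bot (fun a ha => hS.exp a (hLA ha)) hL2 hC)
      have hlA : l ∈ A := hLA (hC.1 hl)
      have hgx : g ∈ θ x := hS.balance hw hw1 hx hx1 hg.1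
      have hgl : g ∈ θ l := by
        refine hS.balance hx hx1 hlA hl1 ⟨hgx, ?_⟩
        have hLg : L ≤ centralizer ({g} : Set G) :=
          sup_le (fun b hb => mem_centralizer_singleton_iff.mpr (mem_centralizer_iff.mp hg.2 b hb))
            (zpowers_le.mpr (mem_centralizer_singleton_iff.mpr (mem_centralizer_singleton_iff.mp hg.1.2).symm))
        exact mem_centralizer_singleton_iff.mpr (mem_centralizer_singleton_iff.mp (hLg (hC.1 hl))).symm
      have hle : ⁅J ⊓ centralizer (C : Set G), zpowers x⁆ ≤ ⁅θ l, zpowers x⁆ :=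
        commutator_mono (hS.inf_centralizer_le hJ (hC.1.trans hLA) hl hl1) le_rfl
      refine hwJ l hlA hl1 (conj_mem_of_mem_normalizer' ?_ (hle hy))
      exact SSFT.commutator_le_normalizer (X := θ l ⊓ centralizer ({x} : Set G)) (inf_le_left.trans le_normalizer)
        (inf_le_right.trans ((Local.FreeAction.centralizer_zpowers_eq x).ge.trans (centralizer_le_normalizer _)))
        ⟨hgl, hg.1.2⟩
    · rw [iSup_neg hC, mem_bot] at hy
      subst hy
      simp

/-- For `x ∈ A` and a prime `t` dividing `|θ x|`, some `t`-member is not centralized by `x`. -/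
theorem alpha {x : G} (hx : x ∈ A) (hx1 : x ≠ 1) {t : ℕ} [ht : Fact t.Prime] (hdvd : t ∣ Nat.card (θ x))
    (hc : ∀ R ∈ Fam p A θ, IsPGroup t R → x ∈ centralizer (R : Set G)) : False := by
  have hS := h.toSetup
  haveI := hS.comm
  have hT : ∀ w ∈ A, w ≠ 1 → ¬ t ∣ Nat.card ↥⁅θ w, zpowers x⁆ := by
    intro w hw hw1
    obtain ⟨S, hAS⟩ := Coprime.exists_invariant_sylow (hS.le_normalizer_theta hw hw1)
      (hS.coprime (hS.func.1.2.1 w hw hw1)) (Or.inr (hS.func.2 w hw hw1)) t
    have hle := commutator_le_pcore' (hS.func.2 w hw hw1) (hS.le_normalizer_theta hw hw1 hx)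
      (hS.orderOf_coprime (hS.func.1.2.1 w hw hw1) hx) S
      (hc _ (hS.mem_of_le (hS.theta_mem hw hw1) (map_subtype_le _) hAS) (S.2.map _))
    exact fun hd => not_dvd_card_pcore' t (θ w) (hd.trans (card_dvd_of_le hle))
  obtain ⟨K, hKθ, hKt, hAK, hKmax⟩ := exists_hall (t := t) (hS.func.2 x hx hx1)
    (hS.le_normalizer_theta hx hx1) (hS.coprime (hS.func.1.2.1 x hx hx1))
  set φ : G → Subgroup G := fun w => ⁅θ w, zpowers x⁆ ⊔ (θ w ⊓ K) with hφ
  have hxθ : ∀ w ∈ A, w ≠ 1 → ⁅θ w, zpowers x⁆ ≤ θ w := fun w hw hw1 =>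
    hS.commutator_le (hS.le_normalizer_theta hw hw1) hx
  have hφle : ∀ w ∈ A, w ≠ 1 → φ w ≤ θ w := fun w hw hw1 => sup_le (hxθ w hw hw1) inf_le_left
  have hnorm : ∀ w : G, θ w ⊓ K ≤ normalizer ((⁅θ w, zpowers x⁆ : Subgroup G) : Set G) := fun w =>
    inf_le_left.trans (normalizer_commutator_ge_left _ _)
  have hAφ : ∀ w ∈ A, w ≠ 1 → A ≤ normalizer (φ w : Set G) := fun w hw hw1 =>
    sup_le_normalizer (hS.le_normalizer_commutator (hS.le_normalizer_theta hw hw1) hx)
      (inf_le_normalizer (hS.le_normalizer_theta hw hw1) hAK)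
  have hφt : ∀ w ∈ A, w ≠ 1 → ¬ t ∣ Nat.card (φ w) := fun w hw hw1 =>
    not_dvd_card_sup (hnorm w) (hT w hw hw1) (fun hd => hKt (hd.trans (card_dvd_of_le inf_le_right)))
  have hφ' : Setup p A φ := by
    refine ⟨hS.elem, hS.rank, ⟨fun a ha ha1 => (hφle a ha ha1).trans (hS.theta_le_centralizer ha ha1),
      fun a ha ha1 hd => hS.func.1.2.1 a ha ha1 (hd.trans (card_dvd_of_le (hφle a ha ha1))),
      fun a ha ha1 => Sig.invariant_of_le_normalizer (hAφ a ha ha1), fun a ha ha1 b hb hb1 => ?_⟩,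
      fun a ha ha1 => Core.isSolvable_of_le (hφle a ha ha1) (hS.func.2 a ha ha1)⟩
    set T := φ a ⊓ centralizer ({b} : Set G)
    have hTb : T ≤ θ b := (inf_le_inf_right _ (hφle a ha ha1)).trans (hS.balance ha ha1 hb hb1)
    have hAT : A ≤ normalizer (T : Set G) :=
      inf_le_normalizer (hAφ a ha ha1) (hS.le_normalizer_centralizer_singleton hb)
    rw [hS.commutator_split hAT (fun hd => hS.func.1.2.1 b hb hb1 (hd.trans (card_dvd_of_le hTb))) hx]
    refine sup_le ((commutator_mono hTb le_rfl).trans le_sup_left) (le_trans ?_ le_sup_right)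
    refine le_inf (inf_le_left.trans hTb) ?_
    set N := ⁅θ a, zpowers x⁆ ⊓ centralizer ({x} : Set G) with hN
    have hNK : N ≤ K := by
      have hAN : A ≤ normalizer (N : Set G) := inf_le_normalizer
        (hS.le_normalizer_commutator (hS.le_normalizer_theta ha ha1) hx) (hS.le_normalizer_centralizer_singleton hx)
      refine hKmax N ((inf_le_inf_right _ (hxθ a ha ha1)).trans (hS.balance ha ha1 hx hx1))
        (fun hd => hT a ha ha1 (hd.trans (card_dvd_of_le inf_le_left))) hAN ?_
      have hθA : θ x ⊓ centralizer (A : Set G) ≤ θ a ⊓ centralizer ({x} : Set G) :=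
        le_inf ((hS.inf_centralizer_le_thetaA (hS.theta_mem hx hx1)).trans (hS.thetaA_le ha ha1))
          (inf_le_left.trans (hS.theta_le_centralizer hx hx1))
      exact hθA.trans (inf_le_normalizer (inf_le_left.trans (normalizer_commutator_ge_left _ _))
        (inf_le_right.trans le_normalizer))
    rintro g ⟨hg, hgx⟩
    obtain ⟨n, hn, k, hk, rfl⟩ := Coprime.exists_mul_of_mem_sup (hnorm a) hg.1
    have hkx : k ∈ centralizer ({x} : Set G) := hS.theta_le_centralizer hx hx1 (hKθ hk.2)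
    refine mul_mem (hNK ⟨hn, ?_⟩) hk.2
    simpa using mul_mem (show n * k ∈ centralizer ({x} : Set G) from hgx) (inv_mem hkx)
  have hne : φ x ≠ θ x := fun e => hφt x hx hx1 (by rw [e]; exact hdvd)
  obtain ⟨U, hU, hUφ⟩ := h.smaller φ hφ' hφle ⟨x, hx, hx1, hne⟩
  exact h.star hx hx1 ⟨hU.1, hU.2.1, hU.2.2.1, fun a ha ha1 => (hU.2.2.2 a ha ha1).trans (hφle a ha ha1)⟩
    fun w hw hw1 => le_sup_left.trans (hUφ w hw hw1)

/-- Every element of `A` moves some core of every maximal member containing its value. -/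
theorem exists_moved {x : G} (hx : x ∈ A) (hx1 : x ≠ 1) {M : Subgroup G} (hM : IsMaxMem p A θ M) :
    ∃ r : ℕ, r.Prime ∧ x ∉ centralizer (core r M : Set G) := by
  have hS := h.toSetup
  by_contra! hno
  have hAM := hS.le_normalizer_mem hM.1
  set J := ⁅M, zpowers x⁆
  have hJM : J ≤ M := hS.commutator_le hAM hx
  have hJF : J ≤ Cfsg.fittingOf M := by
    haveI := hM.1.1
    intro y hy
    refine ⟨⟨y, hJM hy⟩, Core.centralizer_fitting_le_of_isSolvable (mem_centralizer_iff.mpr fun z hz => ?_), rfl⟩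
    refine Subtype.ext (mem_centralizer_iff.mp (Local.Uniq.mem_centralizer_fitting (M := M) (y := y)
      fun q hq _ => ?_) _ (mem_map_of_mem _ hz))
    have h1 : ⁅core q M, zpowers x⁆ = ⊥ := commutator_zpowers_eq_bot.mpr fun z hz =>
      mem_centralizer_singleton_iff.mpr (mem_centralizer_iff.mp (hno q hq.out) z hz)
    have h2 : ⁅⁅zpowers x, M⁆, core q M⁆ = ⊥ := by
      refine commutator_commutator_eq_bot_of_rotate ?_ ?_
      · refine eq_bot_iff.mpr ((commutator_mono ?_ le_rfl).trans h1.le)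
        rw [commutator_comm]
        exact Coprime.commutator_le_of_le_normalizer (le_normalizer.trans (le_normalizer_core q M))
      · rw [h1]; exact commutator_bot_left _
    rw [commutator_comm (zpowers x), commutator_eq_bot_iff_le_centralizer] at h2
    exact h2 hy
  have hxF : Cfsg.fittingOf M ≤ centralizer ({x} : Set G) := fun z hz => mem_centralizer_singleton_iff.mpr
    (mem_centralizer_iff.mp (Local.Uniq.mem_centralizer_fitting fun q hq _ => hno q hq.out) z hz)
  have hJ : J = ⊥ := by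
    have h1 := commutator_zpowers_eq_bot.mpr (hJF.trans hxF)
    rwa [hS.commutator_idem hAM hM.1.2.1 hx] at h1
  have hMx : M ≤ θ x := (le_inf le_rfl (commutator_zpowers_eq_bot.mp hJ)).trans (hM.1.2.2.2 x hx hx1)
  by_cases hM1 : M = ⊥
  · exact h.incomplete ⟨M, hM.1, fun a ha ha1 => by
      obtain ⟨N, hN, hNmax⟩ := hS.exists_isMax_ge (hS.theta_mem ha ha1)
      rwa [hM.2 N hNmax.1 (hM1 ▸ bot_le)] at hN⟩
  have hcore : ∃ t : ℕ, t.Prime ∧ core t M ≠ ⊥ := by
    haveI := hM.1.1
    have hF1 : Cfsg.fittingOf M ≠ ⊥ := by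
      intro e
      refine hM1 (eq_bot_iff.mpr fun y hy => ?_)
      have h1 : (⟨y, hy⟩ : M) ∈ Cfsg.fittingSubgroup M := Core.centralizer_fitting_le_of_isSolvable
        (mem_centralizer_iff.mpr fun z hz => by
          have : (z : G) ∈ Cfsg.fittingOf M := mem_map_of_mem _ hz
          rw [e, mem_bot] at this
          rw [show z = 1 from Subtype.ext this]; simp)
      have h2 : y ∈ Cfsg.fittingOf M := ⟨_, h1, rfl⟩
      rwa [e] at h2
    obtain ⟨t, ht, htd⟩ := Nat.exists_prime_and_dvd (fun hc => hF1 (card_eq_one.mp hc))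
    haveI : Fact t.Prime := ⟨ht⟩
    exact ⟨t, ht, Local.Uniq.core_ne_bot htd⟩
  obtain ⟨t, ht, hD⟩ := hcore
  haveI : Fact t.Prime := ⟨ht⟩
  have hAD : A ≤ normalizer (core t M : Set G) := hAM.trans (le_normalizer_core t M)
  have hDm : core t M ∈ Fam p A θ := hS.mem_of_le hM.1 (core_le t M) hAD
  obtain ⟨Q, hDQ, hQ, hQt, hQm⟩ := Sig.exists_maximal_member hDm (core_isPGroup t M)
  have hp' : p ≠ t := fun e => hM.1.2.1 (e ▸ (Local.Uniq.dvd_of_core_ne_bot hD).trans
    (card_dvd_of_le (Local.Uniq.fitting_le M)))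
  have hxQ : ⁅Q, zpowers x⁆ = ⊥ := by
    refine Coprime.commutator_eq_bot_of_AxB Q (core t M) (zpowers x) hQt (core_isPGroup t M) ?_
      (hDQ.trans le_normalizer) (hS.mem_normalizer_of_mem_A (hS.le_normalizer_mem hQ) hx) ?_ ?_
    · rw [Nat.card_zpowers]
      exact ((Nat.coprime_primes hp.out ht).mpr hp').coprime_dvd_left
        (orderOf_dvd_of_pow_eq_one (hS.exp x hx))
    · exact zpowers_le.mpr (mem_centralizer_iff.mpr fun z hz => mem_centralizer_iff.mp (hno t ht) z hz)
    · have hm : Q ⊓ centralizer (core t M : Set G) ∈ Fam p A θ := hS.mem_of_le hQ inf_le_left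
        (inf_le_normalizer (hS.le_normalizer_mem hQ) (centralizer_le_normalizer' hAD))
      rw [Local.FreeAction.centralizer_zpowers_eq]
      exact ((h.le_of_normalizes hM hDm hD (le_normalizer.trans (le_normalizer_core t M)) hm
        (inf_le_right.trans (centralizer_le_normalizer _))).trans hMx).trans (hS.theta_le_centralizer hx hx1)
  refine h.alpha hx hx1 (t := t) ?_ fun R hR hRt => ?_
  · exact ((Local.Uniq.dvd_of_core_ne_bot hD).trans (card_dvd_of_le (Local.Uniq.fitting_le M))).trans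
      (card_dvd_of_le hMx)
  · obtain ⟨Q', hRQ', hQ', hQ't, hQ'm⟩ := Sig.exists_maximal_member hR hRt
    obtain ⟨c, hc, e⟩ := Sig.transitivity hS.elem hS.rank hS.func hQ hQt hQm hQ' hQ't hQ'm
    refine mem_centralizer_iff.mpr fun z hz => mem_centralizer_singleton_iff.mp ?_
    obtain ⟨q, hq, rfl⟩ := e.ge (hRQ' hz)
    have h2 : c ∈ centralizer ({x} : Set G) :=
      hS.theta_le_centralizer hx hx1 (hS.thetaA_le hx hx1 hc)
    simpa using mul_mem (mul_mem h2 (commutator_zpowers_eq_bot.mp hxQ hq)) (inv_mem h2)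

end MC

end Cfsg.Lib.Sig.SSFT
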