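import Cfsg.Agent.Lib.Sig.SSFT.Coprime
import Cfsg.Agent.Lib.Sig.Transitivity

/-!
# The setting of the solvable signalizer functor theorem

Members of the family, the closure `W (K)` of the functor inside a normalizer, and the properties of a minimal
counterexample.
-/

set_option autoImplicit false
set_option linter.style.haveILetI false
set_option linter.unusedSectionVars false

namespace Cfsg.Lib.Sig.SSFT

open Subgroup
open scoped commutatorElement Pointwise

universe u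

variable {G : Type u} [Group G] [Finite G]

omit [Finite G] in
/-- A subgroup is normalized by `X` once conjugation by elements of `X` maps a generating family into it. -/
theorem le_normalizer_of_iSup {ι : Sort*} {J : Subgroup G} {T : ι → Subgroup G} {X : Subgroup G}
    (hJ : J ≤ ⨆ i, T i) (h : ∀ g ∈ X, ∀ i, ∀ x ∈ T i, g * x * g⁻¹ ∈ J) : X ≤ normalizer (J : Set G) := by
  refine Sig.le_normalizer_of_invariant fun g hg x hx => ?_
  have h1 : (⨆ i, T i) ≤ J.comap (MulAut.conj g).toMonoidHom := iSup_le fun i y hy => by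
    simpa using h g hg i y hy
  simpa using h1 (hJ hx)

omit [Finite G] in
theorem conj_mem_of_mem_normalizer' {H : Subgroup G} {g x : G} (hg : g ∈ normalizer (H : Set G))
    (hx : x ∈ H) : g * x * g⁻¹ ∈ H :=
  (mem_normalizer_iff.mp hg x).mp hx

omit [Finite G] in
theorem inf_le_normalizer {X H K : Subgroup G} (hH : X ≤ normalizer (H : Set G))
    (hK : X ≤ normalizer (K : Set G)) : X ≤ normalizer ((H ⊓ K : Subgroup G) : Set G) :=
  (le_inf hH hK).trans (inf_normalizer_le_normalizer_inf _ _)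

omit [Finite G] in
theorem sup_le_normalizer {X H K : Subgroup G} (hH : X ≤ normalizer (H : Set G))
    (hK : X ≤ normalizer (K : Set G)) : X ≤ normalizer ((H ⊔ K : Subgroup G) : Set G) :=
  (le_inf hH hK).trans (inf_normalizer_le_normalizer_sup _ _)

omit [Finite G] in
theorem commutator_le_normalizer {X H K : Subgroup G} (hH : X ≤ normalizer (H : Set G))
    (hK : X ≤ normalizer (K : Set G)) : X ≤ normalizer ((⁅H, K⁆ : Subgroup G) : Set G) := fun g hg => by
  rw [mem_normalizer_iff_map_conj_eq, map_commutator, mem_normalizer_iff_map_conj_eq.mp (hH hg),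
    mem_normalizer_iff_map_conj_eq.mp (hK hg)]

omit [Finite G] in
theorem centralizer_le_normalizer' {X B : Subgroup G} (hB : X ≤ normalizer (B : Set G)) :
    X ≤ normalizer ((centralizer (B : Set G) : Subgroup G) : Set G) := by
  intro g hg
  have h1 : ∀ {g : G}, g ∈ X → ∀ y ∈ centralizer (B : Set G), g * y * g⁻¹ ∈ centralizer (B : Set G) := by
    intro g hg y hy
    refine mem_centralizer_iff.mpr fun b hb => ?_
    have hc := mem_centralizer_iff.mp hy _
      ((mem_normalizer_iff''.mp (hB hg) b).mp hb)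
    calc b * (g * y * g⁻¹) = g * (g⁻¹ * b * g * y) * g⁻¹ := by group
      _ = g * (y * (g⁻¹ * b * g)) * g⁻¹ := by rw [hc]
      _ = g * y * g⁻¹ * b := by group
  exact mem_normalizer_iff.mpr fun y =>
    ⟨h1 hg y, fun hy => by simpa [mul_assoc] using h1 (inv_mem hg) _ hy⟩

variable {p : ℕ}

/-- A solvable signalizer functor on an elementary abelian group of rank at least three. -/
structure Setup (p : ℕ) (A : Subgroup G) (θ : G → Subgroup G) : Prop where
  elem : Cfsg.IsElementaryAbelian p A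
  rank : p ^ 3 ≤ Nat.card A
  func : Cfsg.IsSolvableSignalizerFunctor p A θ

/-- The family of the functor. -/
abbrev Fam (p : ℕ) (A : Subgroup G) (θ : G → Subgroup G) : Set (Subgroup G) :=
  Cfsg.signalizerFamily p A θ

/-- The functor is complete. -/
def Complete (p : ℕ) (A : Subgroup G) (θ : G → Subgroup G) : Prop :=
  ∃ U ∈ Fam p A θ, ∀ a ∈ A, a ≠ 1 → θ a ≤ U

/-- Maximal members of the family. -/
def IsMaxMem (p : ℕ) (A : Subgroup G) (θ : G → Subgroup G) (M : Subgroup G) : Prop :=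
  M ∈ Fam p A θ ∧ ∀ N ∈ Fam p A θ, M ≤ N → N = M

/-- Maximal members containing some `θ a`. -/
def InM (p : ℕ) (A : Subgroup G) (θ : G → Subgroup G) (M : Subgroup G) : Prop :=
  IsMaxMem p A θ M ∧ ∃ a ∈ A, a ≠ 1 ∧ θ a ≤ M

/-- A minimal counterexample. -/
structure MC (p : ℕ) (A : Subgroup G) (θ : G → Subgroup G) : Prop where
  toSetup : Setup p A θ
  incomplete : ¬ Complete p A θ
  smaller : ∀ ψ : G → Subgroup G, Setup p A ψ → (∀ a ∈ A, a ≠ 1 → ψ a ≤ θ a) →
    (∃ a ∈ A, a ≠ 1 ∧ ψ a ≠ θ a) → Complete p A ψ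
  noInv : ∀ K ∈ Fam p A θ, K ≠ ⊥ → ¬ ∀ a ∈ A, a ≠ 1 → θ a ≤ normalizer (K : Set G)

variable [hp : Fact p.Prime] {A : Subgroup G} {θ : G → Subgroup G}

namespace Setup

variable (hS : Setup p A θ)
include hS

omit [Finite G] hp in
theorem comm : IsMulCommutative A := hS.elem.1

omit [Finite G] hp in
theorem exp : ∀ a ∈ A, a ^ p = 1 := hS.elem.2

omit [Finite G] hp in
theorem rank_two [hp : Fact p.Prime] : p ^ 2 ≤ Nat.card A :=
  (Nat.pow_le_pow_right hp.out.pos (by norm_num)).trans hS.rank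

omit [Finite G] hp in
theorem theta_le_centralizer {a : G} (ha : a ∈ A) (ha1 : a ≠ 1) : θ a ≤ centralizer ({a} : Set G) :=
  hS.func.1.1 a ha ha1

omit [Finite G] hp in
theorem balance {a b : G} (ha : a ∈ A) (ha1 : a ≠ 1) (hb : b ∈ A) (hb1 : b ≠ 1) :
    θ a ⊓ centralizer ({b} : Set G) ≤ θ b :=
  hS.func.1.2.2.2 a ha ha1 b hb hb1

omit [Finite G] hp in
theorem le_normalizer_theta {a : G} (ha : a ∈ A) (ha1 : a ≠ 1) : A ≤ normalizer (θ a : Set G) :=
  Sig.le_normalizer_of_invariant (hS.func.1.2.2.1 a ha ha1)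

omit [Finite G] hp in
theorem theta_mem {a : G} (ha : a ∈ A) (ha1 : a ≠ 1) : θ a ∈ Fam p A θ :=
  ⟨hS.func.2 a ha ha1, hS.func.1.2.1 a ha ha1, hS.func.1.2.2.1 a ha ha1,
    fun _ hb hb1 => hS.balance ha ha1 hb hb1⟩

omit [Finite G] hp in
theorem le_normalizer_mem {U : Subgroup G} (hU : U ∈ Fam p A θ) : A ≤ normalizer (U : Set G) :=
  Sig.le_normalizer_of_invariant hU.2.2.1

theorem coprime {U : Subgroup G} (hU : ¬ p ∣ Nat.card U) : (Nat.card A).Coprime (Nat.card U) :=
  Sig.coprime_card_elementaryAbelian hS.elem hU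

theorem orderOf_coprime {U : Subgroup G} (hU : ¬ p ∣ Nat.card U) {a : G} (ha : a ∈ A) :
    (orderOf a).Coprime (Nat.card U) :=
  (hp.out.coprime_iff_not_dvd.mpr hU).coprime_dvd_left (orderOf_dvd_of_pow_eq_one (hS.exp a ha))

omit hp in
theorem mem_of_le [Fact p.Prime] {U V : Subgroup G} (hV : V ∈ Fam p A θ) (hUV : U ≤ V)
    (hA : A ≤ normalizer (U : Set G)) : U ∈ Fam p A θ :=
  Sig.mem_family_of_le hV hUV hA

omit [Finite G] hp in
theorem le_centralizer_A : A ≤ centralizer (A : Set G) := by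
  haveI := hS.comm
  exact le_centralizer_iff_isMulCommutative.mpr inferInstance

omit [Finite G] hp in
theorem mem_centralizer_A {a : G} (ha : a ∈ A) : a ∈ centralizer (A : Set G) := hS.le_centralizer_A ha

omit [Finite G] hp in
theorem le_normalizer_sub {B : Subgroup G} (hB : B ≤ A) : A ≤ normalizer (B : Set G) := by
  haveI := hS.comm
  exact abelian_le_normalizer hB

omit [Finite G] hp in
theorem le_normalizer_centralizer {B : Subgroup G} (hB : B ≤ A) :
    A ≤ normalizer ((centralizer (B : Set G) : Subgroup G) : Set G) :=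
  centralizer_le_normalizer' (hS.le_normalizer_sub hB)

omit hp in
theorem le_normalizer_centralizer_singleton {b : G} (hb : b ∈ A) :
    A ≤ normalizer ((centralizer ({b} : Set G) : Subgroup G) : Set G) := by
  rw [← Local.FreeAction.centralizer_zpowers_eq]
  exact hS.le_normalizer_centralizer (zpowers_le.mpr hb)

omit [Finite G] hp in
theorem le_normalizer_zpowers {a : G} (ha : a ∈ A) : A ≤ normalizer ((zpowers a : Subgroup G) : Set G) :=
  hS.le_normalizer_sub (zpowers_le.mpr ha)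

omit [Finite G] hp in
theorem le_normalizer_normalizer {K : Subgroup G} (hK : A ≤ normalizer (K : Set G)) :
    A ≤ normalizer ((normalizer (K : Set G) : Subgroup G) : Set G) :=
  hK.trans le_normalizer

omit [Finite G] hp in
theorem inf_centralizer_le {U B : Subgroup G} (hU : U ∈ Fam p A θ) (hB : B ≤ A) {b : G} (hb : b ∈ B)
    (hb1 : b ≠ 1) : U ⊓ centralizer (B : Set G) ≤ θ b :=
  (inf_le_inf_left _ (centralizer_le (Set.singleton_subset_iff.mpr hb))).trans (hU.2.2.2 b (hB hb) hb1)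

theorem exists_ne_one {B : Subgroup G} (hB : B ∈ Coprime.cocyclic A) : ∃ b ∈ B, b ≠ 1 := by
  haveI := hS.comm
  exact B.bot_or_exists_ne_one.resolve_left (cocyclic_ne_bot hS.exp hS.rank_two hB)

theorem exists_ne_one_inf {B C : Subgroup G} (hB : B ∈ Coprime.cocyclic A) (hC : C ∈ Coprime.cocyclic A) :
    ∃ b ∈ B, b ∈ C ∧ b ≠ 1 := by
  haveI := hS.comm
  obtain ⟨b, ⟨hbB, hbC⟩, hb1⟩ :=
    (B ⊓ C).bot_or_exists_ne_one.resolve_left (cocyclic_inf_ne_bot hS.exp hS.rank hB hC)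
  exact ⟨b, hbB, hbC, hb1⟩

/-- A member is generated by its intersections with centralizers of subgroups of index at most `p`. -/
theorem le_of_cocyclic {U T : Subgroup G} (hA : A ≤ normalizer (U : Set G)) (hU : ¬ p ∣ Nat.card U)
    (h : ∀ B ∈ Coprime.cocyclic A, U ⊓ centralizer (B : Set G) ≤ T) : U ≤ T := by
  haveI := hS.comm
  exact (Coprime.le_iSup_centralizer_cocyclic U hA (hS.coprime hU)).trans (iSup₂_le h)

theorem le_of_theta {U T : Subgroup G} (hU : U ∈ Fam p A θ) (h : ∀ a ∈ A, a ≠ 1 → U ⊓ θ a ≤ T) : U ≤ T :=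
  hS.le_of_cocyclic (hS.le_normalizer_mem hU) hU.2.1 fun B hB => by
    obtain ⟨b, hb, hb1⟩ := hS.exists_ne_one hB
    exact (le_inf inf_le_left (hS.inf_centralizer_le hU hB.1 hb hb1)).trans (h b (hB.1 hb) hb1)

theorem exists_point : ∃ a ∈ A, a ≠ 1 := hS.exists_ne_one (self_mem_cocyclic A)

theorem bot_mem : (⊥ : Subgroup G) ∈ Fam p A θ := by
  obtain ⟨a, ha, ha1⟩ := hS.exists_point
  exact hS.mem_of_le (hS.theta_mem ha ha1) bot_le le_normalizer_of_normal

omit [Finite G] hp in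
theorem thetaA_le {a : G} (ha : a ∈ A) (ha1 : a ≠ 1) : Cfsg.signalizerInf A θ ≤ θ a :=
  iInf_le (fun b : {a : G // a ∈ A ∧ a ≠ 1} => θ b) ⟨a, ha, ha1⟩

omit [Finite G] hp in
theorem thetaA_le_centralizer : Cfsg.signalizerInf A θ ≤ centralizer (A : Set G) :=
  Sig.signalizerInf_le_centralizer hS.func.1 le_rfl

omit [Finite G] hp in
theorem inf_centralizer_le_thetaA {U : Subgroup G} (hU : U ∈ Fam p A θ) :
    U ⊓ centralizer (A : Set G) ≤ Cfsg.signalizerInf A θ :=
  le_iInf fun b => hS.inf_centralizer_le hU le_rfl b.2.1 b.2.2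

theorem exists_isMax_ge {U : Subgroup G} (hU : U ∈ Fam p A θ) : ∃ M, U ≤ M ∧ IsMaxMem p A θ M := by
  obtain ⟨M, hUM, hM, hmax⟩ := (Set.toFinite (Fam p A θ)).exists_le_maximal hU
  exact ⟨M, hUM, hM, fun N hN hle => le_antisymm (hmax hN hle) hle⟩

theorem exists_inM {a : G} (ha : a ∈ A) (ha1 : a ≠ 1) : ∃ M, θ a ≤ M ∧ InM p A θ M := by
  obtain ⟨M, hle, hM⟩ := hS.exists_isMax_ge (hS.theta_mem ha ha1)
  exact ⟨M, hle, hM, a, ha, ha1, hle⟩

omit [Finite G] hp in
theorem thetaA_le_inM {M : Subgroup G} (hM : InM p A θ M) : Cfsg.signalizerInf A θ ≤ M := by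
  obtain ⟨a, ha, ha1, hle⟩ := hM.2
  exact (hS.thetaA_le ha ha1).trans hle

/-- A maximal `t`-member. -/
theorem exists_maxT (t : ℕ) : ∃ Q : Subgroup G, Q ∈ Fam p A θ ∧ IsPGroup t Q ∧
    ∀ R ∈ Fam p A θ, IsPGroup t R → Q ≤ R → R = Q := by
  obtain ⟨Q, -, hQ⟩ := Sig.exists_maximal_member (U := (⊥ : Subgroup G)) hS.bot_mem IsPGroup.of_bot
  exact ⟨Q, hQ⟩

/-- A maximal `t`-member contains every `t`-member normalized by `θ (A)`. -/
theorem le_maxT {t : ℕ} [Fact t.Prime] {Q R : Subgroup G} (hQ : Q ∈ Fam p A θ) (hQt : IsPGroup t Q)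
    (hQm : ∀ R ∈ Fam p A θ, IsPGroup t R → Q ≤ R → R = Q) (hR : R ∈ Fam p A θ) (hRt : IsPGroup t R)
    (hn : Cfsg.signalizerInf A θ ≤ normalizer (R : Set G)) : R ≤ Q := by
  obtain ⟨M, hRM, hM, hMt, hMm⟩ := Sig.exists_maximal_member hR hRt
  obtain ⟨c, hc, e⟩ := Sig.transitivity hS.elem hS.rank hS.func hM hMt hMm hQ hQt hQm
  rw [← e, ← Sig.map_conj_eq_of_mem_normalizer (hn hc)]
  exact map_mono hRM

/-- A maximal `t`-member cuts a Sylow subgroup out of every member containing `θ (A)`. -/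
theorem sylow_maxT {t : ℕ} [Fact t.Prime] {Q H : Subgroup G} (hQ : Q ∈ Fam p A θ) (hQt : IsPGroup t Q)
    (hQm : ∀ R ∈ Fam p A θ, IsPGroup t R → Q ≤ R → R = Q) (hH : H ∈ Fam p A θ)
    (hle : Cfsg.signalizerInf A θ ≤ H) :
    ∃ S : Sylow t H, (S : Subgroup H).map H.subtype = Q ⊓ H := by
  obtain ⟨c, hc, S, hS'⟩ := Sig.sylow_of_maximal_member hS.elem hS.rank hS.func hQ hQt hQm hH
  obtain ⟨T, hT⟩ := Coprime.exists_sylow_eq_conj S (le_normalizer (inv_mem (hle hc)) :
    c⁻¹ ∈ normalizer (H : Set G))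
  refine ⟨T, ?_⟩
  rw [hT, hS', map_inf _ _ _ (MulAut.conj c⁻¹).injective, Coprime.map_conj_conj, inv_mul_cancel,
    Coprime.map_conj_one, Coprime.map_conj_eq_self (le_normalizer (inv_mem (hle hc)))]

/-- A maximal `t`-member inside a member is a Sylow subgroup of it. -/
theorem sylow_maxT_of_le {t : ℕ} [Fact t.Prime] {Q H : Subgroup G} (hQ : Q ∈ Fam p A θ) (hQt : IsPGroup t Q)
    (hQm : ∀ R ∈ Fam p A θ, IsPGroup t R → Q ≤ R → R = Q) (hH : H ∈ Fam p A θ) (hle : Q ≤ H) :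
    ∃ S : Sylow t H, (S : Subgroup H).map H.subtype = Q := by
  obtain ⟨S, hQS, hAS⟩ := Coprime.exists_invariant_sylow_ge (hS.le_normalizer_mem hH) (hS.coprime hH.2.1)
    (Or.inr hH.1) hle hQt (hS.le_normalizer_mem hQ)
  exact ⟨S, hQm _ (hS.mem_of_le hH (map_subtype_le _) hAS) (S.2.map _) hQS⟩

end Setup

namespace MC

variable (h : MC p A θ)
include h

/-- The largest member normalizing a nontrivial member. -/
theorem exists_closure {K : Subgroup G} (hK : K ∈ Fam p A θ) (hK1 : K ≠ ⊥) :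
    ∃ W ∈ Fam p A θ, W ≤ normalizer (K : Set G) ∧ ∀ U ∈ Fam p A θ, U ≤ normalizer (K : Set G) → U ≤ W := by
  have hS := h.toSetup
  have hAK := hS.le_normalizer_mem hK
  have hAN := hS.le_normalizer_normalizer hAK
  set ψ : G → Subgroup G := fun a => θ a ⊓ normalizer (K : Set G) with hψ
  have hψ' : Setup p A ψ := ⟨hS.elem, hS.rank,
    ⟨fun a ha ha1 => inf_le_left.trans (hS.theta_le_centralizer ha ha1),
      fun a ha ha1 hd => hS.func.1.2.1 a ha ha1 (hd.trans (card_dvd_of_le inf_le_left)),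
      fun a ha ha1 => Sig.invariant_of_le_normalizer (inf_le_normalizer (hS.le_normalizer_theta ha ha1) hAN),
      fun a ha ha1 b hb hb1 => le_inf ((inf_le_inf_right _ inf_le_left).trans (hS.balance ha ha1 hb hb1))
        (inf_le_left.trans inf_le_right)⟩,
    fun a ha ha1 => Core.isSolvable_of_le inf_le_left (hS.func.2 a ha ha1)⟩
  obtain ⟨W, hW, hWψ⟩ := h.smaller ψ hψ' (fun a _ _ => inf_le_left) (by
    by_contra! hne
    exact h.noInv K hK hK1 fun a ha ha1 => (hne a ha ha1).ge.trans inf_le_right)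
  have hWN : W ≤ normalizer (K : Set G) := hψ'.le_of_theta hW fun a _ _ => inf_le_right.trans inf_le_right
  refine ⟨W, ⟨hW.1, hW.2.1, hW.2.2.1, fun a ha ha1 => (hW.2.2.2 a ha ha1).trans inf_le_left⟩, hWN,
    fun U hU hUN => hS.le_of_theta hU fun a ha ha1 => le_trans (le_inf inf_le_right (inf_le_left.trans hUN))
      (hWψ a ha ha1)⟩

/-- A maximal member contains every member normalizing a nontrivial member normalized by it. -/
theorem le_of_normalizes {M K U : Subgroup G} (hM : IsMaxMem p A θ M) (hK : K ∈ Fam p A θ) (hK1 : K ≠ ⊥)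
    (hMK : M ≤ normalizer (K : Set G)) (hU : U ∈ Fam p A θ) (hUK : U ≤ normalizer (K : Set G)) : U ≤ M := by
  obtain ⟨W, hW, -, hmax⟩ := h.exists_closure hK hK1
  rw [← hM.2 W hW (hmax M hM.1 hMK)]
  exact hmax U hU hUK

/-- A proper smaller functor whose values are normal in those of `θ` is trivial. -/
theorem trivial_of_normal {ψ : G → Subgroup G} (hψ : Setup p A ψ) (hle : ∀ a ∈ A, a ≠ 1 → ψ a ≤ θ a)
    (hne : ∃ a ∈ A, a ≠ 1 ∧ ψ a ≠ θ a) (hnorm : ∀ a ∈ A, a ≠ 1 → θ a ≤ normalizer (ψ a : Set G))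
    {a : G} (ha : a ∈ A) (ha1 : a ≠ 1) : ψ a = ⊥ := by
  have hS := h.toSetup
  haveI := hS.comm
  obtain ⟨U, hU, hUψ⟩ := h.smaller ψ hψ hle hne
  by_contra h0
  refine h.noInv U ⟨hU.1, hU.2.1, hU.2.2.1, fun b hb hb1 => (hU.2.2.2 b hb hb1).trans (hle b hb hb1)⟩
    (fun e => h0 (eq_bot_iff.mpr (e ▸ hUψ a ha ha1))) fun w hw hw1 => ?_
  refine hS.le_of_cocyclic (hS.le_normalizer_theta hw hw1) (hS.func.1.2.1 w hw hw1) fun B hB => ?_
  refine le_normalizer_of_iSup (Coprime.le_iSup_centralizer_cocyclic U (Sig.le_normalizer_of_invariant hU.2.2.1)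
    (hS.coprime hU.2.1)) fun g hg C x hx => ?_
  by_cases hC : C ∈ Coprime.cocyclic A
  · rw [iSup_pos hC] at hx
    obtain ⟨b, hbB, hbC, hb1⟩ := hS.exists_ne_one_inf hB hC
    have hgb : g ∈ θ b := hS.inf_centralizer_le (hS.theta_mem hw hw1) hB.1 hbB hb1 hg
    exact hUψ b (hB.1 hbB) hb1 (conj_mem_of_mem_normalizer' (hnorm b (hB.1 hbB) hb1 hgb)
      (hψ.inf_centralizer_le hU hC.1 hbC hb1 hx))
  · rw [iSup_neg hC, mem_bot] at hx
    subst hx
    simp

end MC

end Cfsg.Lib.Sig.SSFT
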