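import Cfsg.Agent.Lib.Sig.SSFT.Inter

/-!
# The case where the points without moved odd cores lie in a proper subgroup of index `p`
-/

set_option autoImplicit false
set_option linter.style.haveILetI false
set_option linter.unusedSectionVars false

namespace Cfsg.Lib.Sig.SSFT

open Subgroup
open scoped commutatorElement Pointwise

universe u

variable {G : Type u} [Group G] [Finite G]

/-- `x` moves an odd core of some maximal member containing `θ x`. -/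
def Podd (p : ℕ) (A : Subgroup G) (θ : G → Subgroup G) (x : G) : Prop :=
  x ∈ A ∧ x ≠ 1 ∧ ∃ M : Subgroup G, IsMaxMem p A θ M ∧ θ x ≤ M ∧
    ∃ r : ℕ, r.Prime ∧ r ≠ 2 ∧ x ∉ centralizer (core r M : Set G)

omit [Finite G] in
theorem exists_mem_notMem_notMem {L C D : Subgroup G} (hC : ¬ L ≤ C) (hD : ¬ L ≤ D) :
    ∃ y ∈ L, y ∉ C ∧ y ∉ D := by
  obtain ⟨a, ha, haC⟩ := SetLike.not_le_iff_exists.mp hC
  obtain ⟨b, hb, hbD⟩ := SetLike.not_le_iff_exists.mp hD
  by_cases haD : a ∈ D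
  · by_cases hbC : b ∈ C
    · exact ⟨a * b, mul_mem ha hb, fun h1 => haC ((mul_mem_cancel_right hbC).mp h1),
        fun h1 => hbD ((mul_mem_cancel_left haD).mp h1)⟩
    · exact ⟨b, hb, hbC, hbD⟩
  · exact ⟨a, ha, haC, haD⟩

variable {p : ℕ} [hp : Fact p.Prime] {A : Subgroup G} {θ : G → Subgroup G}

namespace MC

variable (h : MC p A θ)
include h

theorem podd_data {x : G} (hx : Podd p A θ x) :
    ∃ s : ℕ, s.Prime ∧ s ≠ 2 ∧ ∃ B H : Subgroup G, Good p A θ s B H ∧ x ∉ B := by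
  obtain ⟨hxA, hx1, M, hM, hθ, r, hr, hr2, hmov⟩ := hx
  haveI : Fact r.Prime := ⟨hr⟩
  exact ⟨r, hr, hr2, h.toSetup.exists_good hr2 hxA hx1 hM.1 hθ hmov⟩

theorem podd_E {s : ℕ} [hs : Fact s.Prime] {B H : Subgroup G} (hg : Good p A θ s B H) {z : G}
    (hz : Podd p A θ z) : E p A θ s z := by
  obtain ⟨hzA, hz1, M, hM, hθ, r, hr, hr2, hmov⟩ := hz
  haveI : Fact r.Prime := ⟨hr⟩
  exact h.E_of_moved hg hr2 hzA hz1 hM hθ hmov

theorem caseA {B₀ : Subgroup G} (hB₀ : B₀ ∈ Coprime.cocyclic A) (hB₀A : B₀ ≠ A)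
    (hodd : ∀ x ∈ A, x ∉ B₀ → Podd p A θ x) : False := by
  have hS := h.toSetup
  haveI := hS.comm
  obtain ⟨v, hvA, hvB⟩ := SetLike.exists_of_lt (lt_of_le_of_ne hB₀.1 hB₀A)
  obtain ⟨s, hs, hs2, B, H, hg, -⟩ := h.podd_data (hodd v hvA hvB)
  haveI : Fact s.Prime := ⟨hs⟩
  have hE : ∀ z ∈ A, z ∉ B₀ → E p A θ s z := fun z hz hzB => h.podd_E hg (hodd z hz hzB)
  have hO := hS.Ov_mem (hE v hvA hvB)
  obtain ⟨U, hU, -, hmax⟩ := h.exists_closure hO (h.Ov_ne_bot hg)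
  obtain ⟨x, hx, hx1⟩ := hS.exists_ne_one hB₀
  refine h.star (hB₀.1 hx) hx1 hU fun w hw hw1 => ?_
  refine hS.commutator_le_of_pieces (hS.theta_mem hw hw1) (hB₀.1 hx) fun C hC hxC => ?_
  have hCB : ¬ C ≤ B₀ := fun hle => hxC (by
    obtain ⟨b, hb, c, hc, e⟩ := Coprime.exists_mul_of_mem_sup
      ((zpowers_le.mpr hvA).trans (abelian_le_normalizer hC.1))
      ((cocyclic_sup_zpowers hS.exp hC hvA fun hv => hvB (hle hv)).ge (hB₀.1 hx))
    have hcB : c ∈ B₀ := by simpa [e] using mul_mem (inv_mem (hle hb)) hx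
    obtain ⟨i, rfl⟩ := mem_zpowers_iff.mp hc
    by_contra hxC
    have hne : v ^ i ≠ 1 := fun e1 => hxC (by rw [e, e1, mul_one]; exact hb)
    have hv1 : v ≠ 1 := fun e1 => hvB (e1 ▸ one_mem B₀)
    have hcard : Nat.card (zpowers v) = p := by rw [Nat.card_zpowers, orderOf_eq_prime (hS.exp v hvA) hv1]
    have heq : zpowers (v ^ i) = zpowers v := by
      refine eq_of_le_of_card_ge (zpowers_le.mpr (zpow_mem (mem_zpowers v) i)) ?_
      rw [hcard, Nat.card_zpowers, orderOf_eq_prime (hS.exp _ (zpow_mem hvA i)) hne]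
    exact hvB ((zpowers_le.mpr hcB : zpowers (v ^ i) ≤ B₀) (heq.ge (mem_zpowers v))))
  have hN := h.le_normalizer_Ov hs2 hg hC fun D hD hCD => by
    obtain ⟨y, hy, hyD, hyB⟩ := exists_mem_notMem_notMem hCD hCB
    exact ⟨y, hy, hyD, hE y (hC.1 hy) hyB⟩
  have hP : θ w ⊓ centralizer (C : Set G) ≤ Cfsg.signalizerInf C θ :=
    le_iInf fun b => hS.inf_centralizer_le (hS.theta_mem hw hw1) hC.1 b.2.1 b.2.2
  have hPF : θ w ⊓ centralizer (C : Set G) ∈ Fam p A θ := hS.mem_of_le (hS.theta_mem hw hw1) inf_le_left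
    (inf_le_normalizer (hS.le_normalizer_theta hw hw1) (hS.le_normalizer_centralizer hC.1))
  exact (commutator_mono (hmax _ hPF (hP.trans hN)) le_rfl).trans
    (hS.commutator_le (hS.le_normalizer_mem hU) (hB₀.1 hx))

end MC

end Cfsg.Lib.Sig.SSFT
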