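import Cfsg.Agent.Lib.Sig.SSFT.CaseBInvolution

/-!
# The case where the points without moved odd cores generate `A`
-/

set_option autoImplicit false
set_option linter.style.haveILetI false
set_option linter.unusedSectionVars false

namespace Cfsg.Lib.Sig.SSFT

open Subgroup
open scoped commutatorElement Pointwise

universe u

variable {G : Type u} [Group G] [Finite G] {p : ℕ} [hp : Fact p.Prime] {A : Subgroup G} {θ : G → Subgroup G}

namespace MC

variable (h : MC p A θ) {Q M' : Subgroup G}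
include h

/-- The odd cores of the maximal members containing a value lie in `M'`. -/
theorem oddCore_le (hO : ∀ w ∈ A, w ≠ 1 → pcore' 2 (θ w) ≤ M') {M : Subgroup G} (hM : InM p A θ M) :
    pcore' 2 M ≤ M' := by
  have hS := h.toSetup
  haveI := hS.comm
  obtain ⟨hMm, w, hw, hw1, hθ⟩ := hM
  set O := pcore' 2 M
  have hAO : A ≤ normalizer (O : Set G) := (hS.le_normalizer_mem hMm.1).trans (le_normalizer_pcore' 2 M)
  have hOF : O ∈ Fam p A θ := hS.mem_of_le hMm.1 (pcore'_le 2 M) hAO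
  have hMO : M ≤ normalizer (O : Set G) := le_normalizer.trans (le_normalizer_pcore' 2 M)
  have hOw : O ⊓ θ w ≤ M' := (le_pcore' inf_le_right (inf_le_normalizer (hθ.trans hMO) le_normalizer)
    (fun hd => not_dvd_card_pcore' 2 M (hd.trans (card_dvd_of_le inf_le_left)))).trans (hO w hw hw1)
  refine hS.le_of_cocyclic hAO hOF.2.1 fun B hB => ?_
  obtain ⟨b, hb, hb1⟩ := hS.exists_ne_one hB
  have hbA := hB.1 hb
  have hPb : O ⊓ centralizer (B : Set G) ≤ θ b := hS.inf_centralizer_le hOF hB.1 hb hb1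
  by_cases hwB : w ∈ B
  · exact (le_inf inf_le_left (hS.inf_centralizer_le hOF hB.1 hwB hw1)).trans hOw
  have hA0 := inf_le_normalizer hAO (hS.le_normalizer_centralizer hB.1)
  have hp0 : ¬ p ∣ Nat.card (O ⊓ centralizer (B : Set G) : Subgroup G) :=
    fun hd => hOF.2.1 (hd.trans (card_dvd_of_le inf_le_left))
  refine le_of_invariant_sylows hA0 (hS.coprime hp0)
    (Or.inr (Core.isSolvable_of_le inf_le_left hOF.1)) fun r hr P hP hPr hAP => ?_
  haveI : Fact r.Prime := ⟨hr⟩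
  by_cases hP1 : P = ⊥
  · rw [hP1]; exact bot_le
  have hPO : P ≤ O := hP.trans inf_le_left
  have hPF : P ∈ Fam p A θ := hS.mem_of_le hOF hPO hAP
  have hpr : p ≠ r := hS.ne_p hPF hPr hP1
  have hr2 : r ≠ 2 := by
    rintro rfl
    exact hP1 (eq_bot_of_isPGroup_of_not_dvd hPr fun hd =>
      not_dvd_card_pcore' 2 M (hd.trans (card_dvd_of_le hPO)))
  rw [hS.commutator_split hAP hPF.2.1 hw]
  have hPw := hS.commutator_le hAP hw
  refine sup_le ?_ ((le_inf (inf_le_left.trans hPO) ((inf_le_inf_right _ hPO).trans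
    (hOF.2.2.2 w hw hw1))).trans hOw)
  refine le_trans (le_pcore'_of_fixed (p := p) (t := r) (q := 2) hpr hr2.symm (hS.func.2 b hbA hb1)
    (hS.func.1.2.1 b hbA hb1) (hS.le_normalizer_theta hbA hb1 hw) (hS.exp w hw)
    (hPw.trans (hP.trans hPb)) (hPr.to_le hPw) (hS.le_normalizer_commutator hAP hw hw)
    (Or.inr ⟨hr2, (hS.commutator_idem hAP hPF.2.1 hw).ge⟩) (Y := O ⊓ θ b)
    (fun hd => not_dvd_card_pcore' 2 M (hd.trans (card_dvd_of_le inf_le_left)))
    (le_inf (hPw.trans hPO) (hPw.trans (hP.trans hPb)))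
    (inf_le_normalizer (((hS.balance hbA hb1 hw hw1).trans hθ).trans hMO) (inf_le_left.trans le_normalizer)))
    (hO b hbA hb1)

variable (hQ : Q ∈ Fam p A θ) (hQ2 : IsPGroup 2 Q)
  (hQm : ∀ R ∈ Fam p A θ, IsPGroup 2 R → Q ≤ R → R = Q)
  (hM' : IsMaxMem p A θ M') (hQM' : Q ≤ M') (hO : ∀ w ∈ A, w ≠ 1 → pcore' 2 (θ w) ≤ M')

include hQ hQ2 hQm in
theorem core_two_le {M : Subgroup G} (hM : InM p A θ M) : core 2 M ≤ Q :=
  h.toSetup.le_maxT hQ hQ2 hQm (h.toSetup.core_mem hM.1.1) (core_isPGroup 2 M)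
    ((h.toSetup.thetaA_le_inM hM).trans (le_normalizer.trans (le_normalizer_core 2 M)))

include hQ hQ2 hQm hQM' hO in
/-- An odd subgroup normalized by `M'` meets `M` inside `O (M)`. -/
theorem inf_le_oddCore {X M : Subgroup G} (hX : ¬ 2 ∣ Nat.card X) (hn : M' ≤ normalizer (X : Set G))
    (hM : InM p A θ M) : M ⊓ X ≤ pcore' 2 M := by
  have hS := h.toSetup
  obtain ⟨S, hS'⟩ := hS.sylow_maxT hQ hQ2 hQm hM.1.1 (hS.thetaA_le_inM hM)
  have hMX : ¬ 2 ∣ Nat.card (M ⊓ X : Subgroup G) := fun hd => hX (hd.trans (card_dvd_of_le inf_le_right))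
  have hPM' : ppcore 2 M ≤ M' := fun x hx => by
    obtain ⟨w, hw, s, hs, rfl⟩ := exists_mul_of_mem_ppcore S hx
    rw [hS'] at hs
    exact mul_mem (h.oddCore_le hO hM hw) (hQM' hs.2.1)
  have hMP : M ≤ normalizer (ppcore 2 M : Set G) := le_normalizer.trans (le_normalizer_ppcore 2 M)
  refine le_pcore'_of_le_ppcore (le_ppcore_of_commutator hM.1.1.1 inf_le_left ?_) hMX
  have h1 : ⁅ppcore 2 M, M ⊓ X⁆ ≤ ppcore 2 M :=
    Coprime.commutator_le_of_le_normalizer (inf_le_left.trans hMP)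
  have h2 : ⁅ppcore 2 M, M ⊓ X⁆ ≤ X := by
    rw [commutator_comm]
    exact (commutator_mono inf_le_right le_rfl).trans (Coprime.commutator_le_of_le_normalizer (hPM'.trans hn))
  exact le_pcore'_of_le_ppcore h1 fun hd => hX (hd.trans (card_dvd_of_le h2))

include hQ hQ2 hQm hM' hQM' hO in
/-- A nontrivial odd core of `M'` lies in every nontrivial core at the same prime. -/
theorem core_le_Ov {s : ℕ} [hs : Fact s.Prime] (hs2 : s ≠ 2) :
    core s M' ≤ Ov p A θ s := by
  have hS := h.toSetup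
  refine Setup.le_Ov fun M hM hMne => ?_
  set D' := core s M'
  set D := core s M
  have hD'2 : ¬ 2 ∣ Nat.card D' := not_dvd_of_isPGroup hs2.symm (core_isPGroup s M')
  have hnD' : M' ≤ normalizer (D' : Set G) := le_normalizer.trans (le_normalizer_core s M')
  have hinf : M ⊓ D' ≤ D := by
    have h1 : M ⊓ D' ≤ D' ⊓ pcore' 2 M :=
      le_inf inf_le_right (h.inf_le_oddCore hQ hQ2 hQm hQM' hO hD'2 hnD' hM)
    have hOM := h.oddCore_le hO hM
    have h2 : D' ⊓ pcore' 2 M ≤ core s (pcore' 2 M) := le_core inf_le_right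
      (inf_le_normalizer (hOM.trans hnD') le_normalizer) ((core_isPGroup s M').to_le inf_le_left)
    have h3 : core s (pcore' 2 M) ≤ D := le_core ((core_le s _).trans (pcore'_le 2 M))
      ((le_normalizer.trans (le_normalizer_pcore' 2 M)).trans (le_normalizer_core s _)) (core_isPGroup s _)
    exact h1.trans (h2.trans h3)
  have hDM' : D ≤ M' := (core_le_pcore'_two hs2 M).trans (h.oddCore_le hO hM)
  have hAD : A ≤ normalizer (D : Set G) := (hS.le_normalizer_mem hM.1.1).trans (le_normalizer_core s M)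
  by_contra hD'D
  have hlt : D < D' ⊔ D := right_lt_sup.mpr hD'D
  have hSp : IsPGroup s (D' ⊔ D : Subgroup G) :=
    Sig.isPGroup_sup_of_le_normalizer (core_isPGroup s M') (core_isPGroup s M) (hDM'.trans hnD')
  haveI : Group.IsNilpotent (D' ⊔ D : Subgroup G) := hSp.isNilpotent
  obtain ⟨w, hwn, hw⟩ := SetLike.exists_of_lt (Group.normalizerCondition_of_isNilpotent
    (D.subgroupOf (D' ⊔ D)) (lt_top_iff_ne_top.mpr fun e => hlt.not_ge (subgroupOf_eq_top.mp e)))
  refine hw (mem_subgroupOf.mpr ?_)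
  have hwn' : (w : G) ∈ normalizer (D : Set G) := by
    have h1 := le_normalizer_map _ (mem_map_of_mem (D' ⊔ D).subtype hwn)
    rwa [map_subgroupOf_eq_of_le (le_sup_right : D ≤ D' ⊔ D)] at h1
  have hN : (D' ⊔ D) ⊓ normalizer (D : Set G) ∈ Fam p A θ := hS.mem_of_le hM'.1
    (inf_le_left.trans (sup_le (core_le s M') hDM'))
    (inf_le_normalizer (sup_le_normalizer ((hS.le_normalizer_mem hM'.1).trans (le_normalizer_core s M')) hAD)
      (hAD.trans le_normalizer))
  have hwM : (w : G) ∈ M := h.le_of_normalizes hM.1 (hS.core_mem hM.1.1) hMne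
    (le_normalizer.trans (le_normalizer_core s M)) hN inf_le_right ⟨w.2, hwn'⟩
  obtain ⟨a, ha, c, hc, e⟩ := Coprime.exists_mul_of_mem_sup (hDM'.trans hnD') w.2
  have haM : a ∈ M := by
    simpa [e] using mul_mem hwM (inv_mem (core_le s M hc))
  rw [e]
  exact mul_mem (hinf ⟨haM, ha⟩) hc

include hQ hQ2 hQm hM' hQM' hO in
/-- A value with a moved odd core lies in `M'`. -/
theorem podd_le {w : G} (hw : Podd p A θ w) : θ w ≤ M' := by
  have hS := h.toSetup
  haveI := hS.comm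
  obtain ⟨s, hs, hs2, B, H, hg, hwB⟩ := h.podd_data hw
  haveI : Fact s.Prime := ⟨hs⟩
  have hwA := hw.1
  have hw1 := hw.2.1
  have hwE : E p A θ s w := h.podd_E hg hw
  have hgoodM' : ∀ {C U : Subgroup G}, Good p A θ s C U → U ≤ core s M' := fun {C U} hU => by
    obtain ⟨c, hc, hc1⟩ := hS.exists_ne_one hU.cocyclic
    have hcA := hU.cocyclic.1 hc
    refine hU.le_core M' hM'.1 (le_trans ?_ (hO c hcA hc1))
    exact (hU.le_core _ (hS.theta_mem hcA hc1) ((le_inf le_rfl hU.centralizes).trans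
      (hS.inf_centralizer_le hU.mem hU.cocyclic.1 hc hc1))).trans (core_le_pcore'_two hs2 _)
  have hne : core s M' ≠ ⊥ := fun e => hg.ne_bot (eq_bot_iff.mpr (e ▸ hgoodM' hg))
  have hOF := hS.Ov_mem hwE
  have hOv : Ov p A θ s = core s M' := by
    refine le_antisymm ?_ (h.core_le_Ov hQ hQ2 hQm hM' hQM' hO hs2)
    obtain ⟨v, hv, hv1, hvE⟩ : ∃ v ∈ A, v ≠ 1 ∧ ¬ E p A θ s v := by
      by_contra! hall
      exact h.not_all_E (h.Ov_ne_bot hg) hall
    have hfix := h.Ov_inf_centralizer_eq_bot (hS.dense_of_good hg) hv hv1 hvE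
    rw [hS.commutator_split (hS.le_normalizer_mem hOF) hOF.2.1 hv, hfix, sup_bot_eq]
    refine hS.commutator_le_of_pieces hOF hv fun C hC hvC => ?_
    obtain ⟨y, hy, hyC, hyE⟩ : ∃ y ∈ A, y ∉ C ∧ E p A θ s y := by
      by_cases hBC : B ≤ C
      · refine ⟨w, hwA, fun hwC => hvC ?_, hwE⟩
        exact sup_le hBC (zpowers_le.mpr hwC) ((cocyclic_sup_zpowers hS.exp hg.cocyclic hwA hwB).ge hv)
      · obtain ⟨b, hb, hbC⟩ := SetLike.not_le_iff_exists.mp hBC
        exact ⟨b, hg.cocyclic.1 hb, hbC, hS.E_of_good hg hb fun e => hbC (e ▸ one_mem C)⟩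
    have hAP : A ≤ normalizer ((Ov p A θ s ⊓ centralizer (C : Set G) : Subgroup G) : Set G) :=
      inf_le_normalizer (hS.le_normalizer_mem hOF) (hS.le_normalizer_centralizer hC.1)
    refine (hS.commutator_le_of_notMem hC hy hyC hv hAP inf_le_right).trans ?_
    by_cases hU : ⁅Ov p A θ s ⊓ centralizer (C : Set G), zpowers y⁆ = ⊥
    · rw [hU]; exact bot_le
    · obtain ⟨My, hMy, hθy, hney⟩ := hyE.inM
      exact hgoodM' (hS.good_of_piece hy hyE.2.1 hMy.1.1 hθy (inf_le_left.trans (Setup.Ov_le hMy hney)) hAP hC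
        inf_le_right (Or.inr hs2) hU)
  refine hS.le_of_cocyclic (hS.le_normalizer_theta hwA hw1) (hS.func.1.2.1 w hwA hw1) fun C hC => ?_
  set L := C ⊔ zpowers w
  have hL : L ∈ Coprime.cocyclic A := by
    obtain ⟨hCA, a, ha, e⟩ := hC
    exact ⟨sup_le hCA (zpowers_le.mpr hwA), a, ha, le_antisymm (sup_le (sup_le hCA (zpowers_le.mpr hwA))
      (zpowers_le.mpr ha)) (e.ge.trans (sup_le_sup_right le_sup_left _))⟩
  have hwL : w ∈ L := mem_sup_right (mem_zpowers w)
  have hN := h.le_normalizer_Ov hs2 hg hL fun D hD hLD => by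
    by_cases hwD : w ∈ D
    · obtain ⟨y, hy, hyD⟩ : ∃ y ∈ L ⊓ B, y ∉ D := by
        refine SetLike.not_le_iff_exists.mp fun hle => hLD ?_
        rw [← cocyclic_inf_sup_zpowers hS.exp hg.cocyclic hL.1 hwL hwB]
        exact sup_le hle (zpowers_le.mpr hwD)
      exact ⟨y, hy.1, hyD, hS.E_of_good hg hy.2 fun e => hyD (e ▸ one_mem D)⟩
    · exact ⟨w, hwL, hwD, hwE⟩
  have hPF : θ w ⊓ centralizer (C : Set G) ∈ Fam p A θ := hS.mem_of_le (hS.theta_mem hwA hw1) inf_le_left
    (inf_le_normalizer (hS.le_normalizer_theta hwA hw1) (hS.le_normalizer_centralizer hC.1))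
  have hPL : θ w ⊓ centralizer (C : Set G) ≤ Cfsg.signalizerInf L θ := le_iInf fun b => by
    refine (le_inf inf_le_left ?_).trans (hS.inf_centralizer_le (hS.theta_mem hwA hw1) hL.1 b.2.1 b.2.2)
    rw [le_centralizer_iff]
    refine sup_le (le_centralizer_iff.mp inf_le_right) (zpowers_le.mpr (mem_centralizer_iff.mpr fun g hg' => ?_))
    exact mem_centralizer_singleton_iff.mp (hS.theta_le_centralizer hwA hw1 hg'.1)
  refine h.le_of_normalizes hM' (hS.core_mem hM'.1) hne (le_normalizer.trans (le_normalizer_core s M')) hPF ?_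
  exact hOv ▸ hPL.trans hN

set_option maxHeartbeats 1000000 in
include hQ hQ2 hQm hM' hQM' hO in
/-- The odd part of `C_M (O_2 (M))` lies in `O (M')`. -/
theorem oddCentralizer_le {M : Subgroup G} (hM : InM p A θ M) (hD : core 2 M ≠ ⊥) :
    pcore' 2 M ⊓ centralizer (core 2 M : Set G) ≤ pcore' 2 M' := by
  have hS := h.toSetup
  set D := core 2 M
  set W := pcore' 2 M'
  set P := ppcore 2 M'
  set Φ := pcore' 2 M ⊓ centralizer (D : Set G)
  have hΦM' : Φ ≤ M' := inf_le_left.trans (h.oddCore_le hO hM)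
  have hDM' : D ≤ M' := (h.core_two_le hQ hQ2 hQm hM).trans hQM'
  set L := normalizer (W : Set G) with hL
  have hM'L : M' ≤ L := le_normalizer.trans (le_normalizer_pcore' 2 M')
  have hPL : P ≤ L := (ppcore_le 2 M').trans hM'L
  haveI : (W.subgroupOf L).Normal := subgroupOf_normal le_normalizer le_rfl
  set f := QuotientGroup.mk' (W.subgroupOf L) with hf
  obtain ⟨S, hS'⟩ := hS.sylow_maxT_of_le hQ hQ2 hQm hM'.1 hQM'
  have hΦ2 : ¬ 2 ∣ Nat.card Φ := fun hd => not_dvd_card_pcore' 2 M (hd.trans (card_dvd_of_le inf_le_left))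
  have hker : ∀ {x : L}, (x : G) ∈ W → f x = 1 := fun {x} hx => (QuotientGroup.eq_one_iff x).mpr hx
  have hV : IsPGroup 2 ((P.subgroupOf L).map f) := by
    rintro ⟨_, x, hx, rfl⟩
    obtain ⟨w, hw, s, hs, hxe⟩ := exists_mul_of_mem_ppcore S (show (x : G) ∈ P from hx)
    rw [hS'] at hs
    obtain ⟨k, hk⟩ := hQ2 ⟨s, hs.2⟩
    have hsL : s ∈ L := hM'L (hQM' hs.2)
    have hwL : w ∈ L := hM'L (pcore'_le 2 M' hw)
    refine ⟨k, Subtype.ext ?_⟩
    show (f x) ^ 2 ^ k = 1
    rw [show x = (⟨w, hwL⟩ : L) * ⟨s, hsL⟩ from Subtype.ext hxe, map_mul, hker (x := ⟨w, hwL⟩) hw, one_mul, ← map_pow,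
      show (⟨s, hsL⟩ : L) ^ 2 ^ k = 1 from Subtype.ext (by simpa using congrArg Subtype.val hk), map_one]
  have hD2 : IsPGroup 2 ((D.subgroupOf L).map f) :=
    ((core_isPGroup 2 M).of_equiv (subgroupOfEquivOfLe (hDM'.trans hM'L)).symm).map f
  have hnormP : ∀ {T : Subgroup G}, T ≤ M' →
      (T.subgroupOf L).map f ≤ normalizer ((P.subgroupOf L).map f : Set _) := fun {T} hT => by
    have h1 : T.subgroupOf L ≤ normalizer (P.subgroupOf L : Set L) := fun x hx => mem_normalizer_iff.mpr fun v =>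
      mem_normalizer_iff.mp ((le_normalizer.trans (le_normalizer_ppcore 2 M')) (hT hx)) (v : G)
    exact (map_mono h1).trans (le_normalizer_map f)
  have hΦD : (Φ.subgroupOf L).map f ≤ centralizer ((D.subgroupOf L).map f : Set _) := by
    rintro _ ⟨x, hx, rfl⟩
    refine mem_centralizer_iff.mpr ?_
    rintro _ ⟨d, hd, rfl⟩
    rw [← map_mul, ← map_mul, show d * x = x * d from Subtype.ext (mem_centralizer_iff.mp hx.2 _ hd)]
  have hcomm := Coprime.commutator_eq_bot_of_AxB ((P.subgroupOf L).map f) ((D.subgroupOf L).map f)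
    ((Φ.subgroupOf L).map f) hV hD2 ?_ (hnormP hDM') (hnormP hΦM') hΦD ?_
  · refine le_pcore'_of_le_ppcore (le_ppcore_of_commutator hM'.1.1 hΦM' (Subgroup.commutator_le.mpr
      fun g hg u hu => ?_)) hΦ2
    have h3 : f ⁅(⟨g, hPL hg⟩ : L), (⟨u, hM'L (hΦM' hu)⟩ : L)⁆ = 1 := by
      rw [map_commutatorElement, ← mem_bot, ← hcomm]
      exact commutator_mem_commutator (mem_map_of_mem f hg) (mem_map_of_mem f hu)
    exact mem_subgroupOf.mp ((QuotientGroup.eq_one_iff _).mp h3)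
  · refine Nat.Coprime.symm (Nat.prime_two.coprime_iff_not_dvd.mpr fun hd => hΦ2 (hd.trans ?_))
    refine (Core.card_map_dvd f (Φ.subgroupOf L)).trans ?_
    exact (Nat.card_congr (subgroupOfEquivOfLe (hΦM'.trans hM'L)).toEquiv).dvd
  · rintro _ ⟨⟨x, hx, rfl⟩, hxD⟩
    have hcopD : (Nat.card D).Coprime (Nat.card W) :=
      coprime_card_of_not_dvd (core_isPGroup 2 M) (not_dvd_card_pcore' 2 M')
    obtain ⟨n, hn, c, hc, hxe⟩ := exists_mul_centralizer (W := W) (D := D) (g := (x : G))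
      (hDM'.trans hM'L) hcopD
      (Or.inr (Core.isSolvable_of_le (pcore'_le 2 M') hM'.1.1)) fun d hd => by
        have h3 : f ⁅x, (⟨d, hM'L (hDM' hd)⟩ : L)⁆ = 1 := by
          rw [map_commutatorElement, commutatorElement_eq_one_iff_mul_comm]
          exact (mem_centralizer_iff.mp hxD _
            (mem_map_of_mem f (show (⟨d, hM'L (hDM' hd)⟩ : L) ∈ D.subgroupOf L from hd))).symm
        exact mem_subgroupOf.mp ((QuotientGroup.eq_one_iff _).mp h3)
    have hxP : (x : G) ∈ P := hx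
    have hWP : W ≤ P := pcore'_le_ppcore 2 M'
    have hcP : c ∈ P := by simpa [hxe] using mul_mem (inv_mem (hWP hn)) hxP
    have hAD : A ≤ normalizer (D : Set G) := (hS.le_normalizer_mem hM.1.1).trans (le_normalizer_core 2 M)
    have hPF : P ⊓ centralizer (D : Set G) ∈ Fam p A θ :=
      hS.mem_of_le hM'.1 (inf_le_left.trans (ppcore_le 2 M'))
        (inf_le_normalizer ((hS.le_normalizer_mem hM'.1).trans (le_normalizer_ppcore 2 M'))
          (centralizer_le_normalizer' hAD))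
    have hcM : c ∈ M := h.le_of_normalizes hM.1 (hS.core_mem hM.1.1) hD
      (le_normalizer.trans (le_normalizer_core 2 M)) hPF (inf_le_right.trans (centralizer_le_normalizer _)) ⟨hcP, hc⟩
    have hcL : c ∈ L := hPL hcP
    have hfx : f x = f ⟨c, hcL⟩ := by
      rw [show x = (⟨n, hPL (hWP hn)⟩ : L) * ⟨c, hcL⟩ from Subtype.ext hxe, map_mul,
        hker (x := ⟨n, hPL (hWP hn)⟩) hn, one_mul]
    rw [hfx]
    refine mem_centralizer_iff.mpr ?_
    rintro _ ⟨u, hu, rfl⟩
    refine (commutatorElement_eq_one_iff_mul_comm.mp ?_).symm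
    rw [← map_commutatorElement]
    refine hker (le_pcore'_of_le_ppcore (T := Φ ⊓ P) inf_le_right
      (fun hd => hΦ2 (hd.trans (card_dvd_of_le inf_le_left))) ⟨?_, ?_⟩)
    · show ⁅c, (u : G)⁆ ∈ Φ
      rw [commutatorElement_def]
      refine mul_mem (conj_mem_of_mem_normalizer' ?_ hu) (inv_mem hu)
      exact inf_le_normalizer (le_normalizer.trans (le_normalizer_pcore' 2 M))
        (centralizer_le_normalizer' (le_normalizer.trans (le_normalizer_core 2 M))) hcM
    · show ⁅c, (u : G)⁆ ∈ P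
      rw [commutatorElement_def, show c * (u : G) * c⁻¹ * (u : G)⁻¹ = c * ((u : G) * c⁻¹ * (u : G)⁻¹) by group]
      exact mul_mem hcP (conj_mem_of_mem_normalizer'
        ((le_normalizer.trans (le_normalizer_ppcore 2 M')) (hΦM' hu)) (inv_mem hcP))

end MC

/-- The case where the points without moved odd cores generate `A`. -/
theorem MC.caseB (h : MC p A θ)
    (hP : ∀ C ∈ Coprime.cocyclic A, C ≠ A → ∃ z ∈ A, z ∉ C ∧ ¬ Podd p A θ z)
    {B₁ : Subgroup G} (hB₁ : B₁ ∈ Coprime.cocyclic A) (hB₁A : B₁ ≠ A) : False := by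
  classical
  have hS := h.toSetup
  haveI := hS.comm
  obtain ⟨Q, hQ, hQ2, hQm⟩ := hS.exists_maxT 2
  obtain ⟨y, hy, hyQ, hyc, hyθ⟩ := h.exists_involution hP hB₁ hB₁A hQ hQ2 hQm
  obtain ⟨M', hM', hQM', hO⟩ := h.exists_mprime hQ hQ2 hQm hy hyQ hyc hyθ
  choose! Ms hle hMs using fun (a : G) (ha : a ∈ A) (ha1 : a ≠ 1) => hS.exists_inM ha ha1
  set X := pcore' 2 M'
  have hnX : M' ≤ normalizer (X : Set G) := le_normalizer.trans (le_normalizer_pcore' 2 M')
  have hX2 : ¬ 2 ∣ Nat.card X := not_dvd_card_pcore' 2 M'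
  set ψ : G → Subgroup G := fun a =>
    θ a ⊓ if Podd p A θ a then X else pcore' 2 (Ms a) ⊓ centralizer (core 2 (Ms a) : Set G) with hψ
  have hψX : ∀ a ∈ A, a ≠ 1 → ψ a ≤ X := fun a ha ha1 => by
    by_cases hpa : Podd p A θ a
    · simp only [hψ, if_pos hpa]; exact inf_le_right
    · simp only [hψ, if_neg hpa]
      exact inf_le_right.trans (h.oddCentralizer_le hQ hQ2 hQm hM' hQM' hO (hMs a ha ha1)
        (h.p2_data ha ha1 hpa (hMs a ha ha1).1 (hle a ha ha1)).1)
  have hgen : ∀ b ∈ A, b ≠ 1 → ∀ T : Subgroup G, T ≤ θ b → T ≤ X → T ≤ ψ b := by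
    intro b hb hb1 T hTb hTX
    by_cases hpb : Podd p A θ b
    · simp only [hψ, if_pos hpb]; exact le_inf hTb hTX
    simp only [hψ, if_neg hpb]
    have hM := hMs b hb hb1
    have hTM : T ≤ Ms b ⊓ X := le_inf (hTb.trans (hle b hb hb1)) hTX
    refine le_inf hTb (le_inf (hTM.trans (h.inf_le_oddCore hQ hQ2 hQm hQM' hO hX2 hnX hM)) (hTM.trans ?_))
    have hDM' : core 2 (Ms b) ≤ M' := (h.core_two_le hQ hQ2 hQm hM).trans hQM'
    refine Local.Uniq.le_centralizer_of_normalizes (inf_le_left.trans (le_normalizer.trans (le_normalizer_core 2 _)))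
      (inf_le_normalizer ((core_le 2 _).trans le_normalizer) (hDM'.trans hnX))
      (eq_bot_of_isPGroup_of_not_dvd (t := 2) ((core_isPGroup 2 _).to_le inf_le_right)
        fun hd => hX2 (hd.trans (card_dvd_of_le (inf_le_left.trans inf_le_right))))
  have hAψ : ∀ a ∈ A, a ≠ 1 → A ≤ normalizer (ψ a : Set G) := fun a ha ha1 => by
    refine inf_le_normalizer (hS.le_normalizer_theta ha ha1) ?_
    have hAM := hS.le_normalizer_mem (hMs a ha ha1).1.1
    split_ifs
    · exact (hS.le_normalizer_mem hM'.1).trans (le_normalizer_pcore' 2 M')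
    · exact inf_le_normalizer (hAM.trans (le_normalizer_pcore' 2 _))
        (centralizer_le_normalizer' (hAM.trans (le_normalizer_core 2 _)))
  have hψ' : Setup p A ψ :=
    ⟨hS.elem, hS.rank, ⟨fun a ha ha1 => inf_le_left.trans (hS.theta_le_centralizer ha ha1),
      fun a ha ha1 hd => hS.func.1.2.1 a ha ha1 (hd.trans (card_dvd_of_le inf_le_left)),
      fun a ha ha1 => Sig.invariant_of_le_normalizer (hAψ a ha ha1),
      fun a ha ha1 b hb hb1 => hgen b hb hb1 _ ((inf_le_inf_right _ inf_le_left).trans (hS.balance ha ha1 hb hb1))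
        (inf_le_left.trans (hψX a ha ha1))⟩,
      fun a ha ha1 => Core.isSolvable_of_le inf_le_left (hS.func.2 a ha ha1)⟩
  have hnormψ : ∀ a ∈ A, a ≠ 1 → θ a ≤ normalizer (ψ a : Set G) := fun a ha ha1 => by
    refine inf_le_normalizer le_normalizer ?_
    have hM := le_normalizer (H := Ms a)
    split_ifs with hpa
    · exact (h.podd_le hQ hQ2 hQm hM' hQM' hO hpa).trans hnX
    · exact (hle a ha ha1).trans (inf_le_normalizer (hM.trans (le_normalizer_pcore' 2 _))
        (centralizer_le_normalizer' (hM.trans (le_normalizer_core 2 _))))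
  obtain ⟨a₀, ha₀, ha₀1⟩ := hS.exists_point
  have hne : ψ a₀ ≠ θ a₀ := fun e => hX2 (by
    have h1 : y ∈ ψ a₀ := e.ge (hS.thetaA_le ha₀ ha₀1 hyθ)
    have h2 := orderOf_dvd_natCard (⟨y, hψX a₀ ha₀ ha₀1 h1⟩ : X)
    rwa [Subgroup.orderOf_mk, hy] at h2)
  have htriv : ∀ a ∈ A, a ≠ 1 → ψ a = ⊥ := fun a ha ha1 =>
    h.trivial_of_normal hψ' (fun b _ _ => inf_le_left) ⟨a₀, ha₀, ha₀1, hne⟩ hnormψ ha ha1
  have hzero : ∀ T : Subgroup G, T ∈ Fam p A θ → T ≤ X → T = ⊥ := fun T hT hTX =>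
    eq_bot_iff.mpr <| hS.le_of_theta hT fun a ha ha1 =>
      (hgen a ha ha1 _ inf_le_right (inf_le_left.trans hTX)).trans (htriv a ha ha1).le
  have hall : ∀ a ∈ A, a ≠ 1 → ¬ Podd p A θ a := fun a ha ha1 hpa => by
    obtain ⟨s, hs, hs2, B, H, hg, -⟩ := h.podd_data hpa
    haveI : Fact s.Prime := ⟨hs⟩
    obtain ⟨b, hb, hb1⟩ := hS.exists_ne_one hg.cocyclic
    have hbA := hg.cocyclic.1 hb
    have hHM' : H ≤ M' := le_trans ((hg.le_core _ (hS.theta_mem hbA hb1) ((le_inf le_rfl hg.centralizes).trans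
      (hS.inf_centralizer_le hg.mem hg.cocyclic.1 hb hb1))).trans (core_le_pcore'_two hs2 _)) (hO b hbA hb1)
    exact hg.ne_bot (hzero H hg.mem ((hg.le_core M' hM'.1 hHM').trans (core_le_pcore'_two hs2 M')))
  have hy1 : y ≠ 1 := fun e => by rw [e, orderOf_one] at hy; omega
  have hE : ∀ a ∈ A, a ≠ 1 → E p A θ 2 a := fun a ha ha1 =>
    ⟨ha, ha1, Ms a, (hMs a ha ha1).1, hle a ha ha1,
      (h.p2_data ha ha1 (hall a ha ha1) (hMs a ha ha1).1 (hle a ha ha1)).1⟩
  refine h.not_all_E (s := 2) (fun e => hy1 ?_) hE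
  rw [← mem_bot, ← e]
  refine (Setup.le_Ov (X := zpowers y) fun M hM hD => zpowers_le.mpr ?_) (mem_zpowers y)
  have hΦ : pcore' 2 M ⊓ centralizer (core 2 M : Set G) = ⊥ := by
    refine hzero _ (hS.mem_of_le hM.1.1 (inf_le_left.trans (pcore'_le 2 M))
      (inf_le_normalizer ((hS.le_normalizer_mem hM.1.1).trans (le_normalizer_pcore' 2 M))
        (centralizer_le_normalizer' ((hS.le_normalizer_mem hM.1.1).trans (le_normalizer_core 2 M)))))
      (h.oddCentralizer_le hQ hQ2 hQm hM' hQM' hO hM hD)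
  haveI := hM.1.1.1
  have hyM : y ∈ M := hS.thetaA_le_inM hM hyθ
  have hyF : y ∈ Cfsg.fittingOf M := by
    refine ⟨⟨y, hyM⟩, Core.centralizer_fitting_le_of_isSolvable (mem_centralizer_iff.mpr fun w hw =>
      Subtype.ext (mem_centralizer_iff.mp (Local.Uniq.mem_centralizer_fitting (M := M) (y := y) fun q hq _ => ?_) _
        (mem_map_of_mem _ hw))), rfl⟩
    rcases eq_or_ne q 2 with rfl | hq2
    · exact centralizer_le (SetLike.coe_subset_coe.mpr (h.core_two_le hQ hQ2 hQm hM)) hyc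
    · have hq0 : core q M = ⊥ := eq_bot_iff.mpr
        ((le_inf (core_le_pcore'_two hq2 M) (Local.Uniq.core_commute M hq2)).trans hΦ.le)
      show y ∈ centralizer (core q M : Set G)
      rw [hq0]
      exact mem_centralizer_iff.mpr fun w hw => by rw [mem_bot.mp hw]; simp
  exact Local.Uniq.mem_core_of_fitting hyF 1 (by rw [hy, pow_one])

end Cfsg.Lib.Sig.SSFT
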