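import Cfsg.Agent.Lib.Sig.SSFT.CaseA

/-!
# The central involution and the maximal member attached to it

The case where the points without moved odd cores generate `A`.
-/

set_option autoImplicit false
set_option linter.style.haveILetI false
set_option linter.unusedSectionVars false

namespace Cfsg.Lib.Sig.SSFT

open Subgroup
open scoped commutatorElement Pointwise

universe u

variable {G : Type u} [Group G] [Finite G]

theorem eq_bot_of_isPGroup_of_not_dvd {t : ℕ} [ht : Fact t.Prime] {P : Subgroup G} (hP : IsPGroup t P)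
    (h : ¬ t ∣ Nat.card P) : P = ⊥ := by
  obtain ⟨i, hi⟩ := IsPGroup.iff_card.mp hP
  rcases Nat.eq_zero_or_pos i with rfl | hi0
  · exact eq_bot_of_card_eq _ (by rw [hi, pow_zero])
  · exact absurd (hi ▸ dvd_pow_self t hi0.ne') h

theorem core_le_pcore'_two {r : ℕ} [hr : Fact r.Prime] (hr2 : r ≠ 2) (K : Subgroup G) :
    core r K ≤ pcore' 2 K :=
  le_pcore' (core_le r K) (le_normalizer.trans (le_normalizer_core r K))
    (not_dvd_of_isPGroup hr2.symm (core_isPGroup r K))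

omit [Finite G] in
theorem le_centralizer_of_le_normalizer_zpowers {W : Subgroup G} {y : G} (hy : orderOf y = 2)
    (hW : W ≤ normalizer ((zpowers y : Subgroup G) : Set G)) : W ≤ centralizer ({y} : Set G) := by
  intro g hg
  obtain ⟨i, hi⟩ := mem_zpowers_iff.mp ((mem_normalizer_iff.mp (hW hg) y).mp (mem_zpowers y))
  refine mem_centralizer_singleton_iff.mpr ?_
  have h2 : y ^ 2 = 1 := hy ▸ pow_orderOf_eq_one y
  have hne : g * y * g⁻¹ ≠ 1 := fun e => by
    have h1 : y = 1 := by simpa [mul_assoc] using congrArg (fun z => g⁻¹ * z * g) e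
    rw [h1, orderOf_one] at hy; omega
  rcases Int.even_or_odd i with ⟨k, rfl⟩ | ⟨k, rfl⟩
  · exact absurd hi.symm (by rw [← two_mul, zpow_mul, zpow_ofNat, h2, one_zpow]; exact hne)
  · rw [zpow_add, zpow_mul, zpow_ofNat, h2, one_zpow, one_mul, zpow_one] at hi
    exact mul_inv_eq_iff_eq_mul.mp hi.symm

variable {p : ℕ} [hp : Fact p.Prime] {A : Subgroup G} {θ : G → Subgroup G}

namespace MC

variable (h : MC p A θ)
include h

/-- A point without moved odd cores moves `O_2 (M)` of every maximal member containing its value. -/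
theorem p2_data {z : G} (hz : z ∈ A) (hz1 : z ≠ 1) (hno : ¬ Podd p A θ z) {M : Subgroup G}
    (hM : IsMaxMem p A θ M) (hθ : θ z ≤ M) :
    core 2 M ≠ ⊥ ∧ ∀ r : ℕ, r.Prime → r ≠ 2 → z ∈ centralizer (core r M : Set G) := by
  have hodd : ∀ r : ℕ, r.Prime → r ≠ 2 → z ∈ centralizer (core r M : Set G) := fun r hr hr2 => by
    by_contra hmov
    exact hno ⟨hz, hz1, M, hM, hθ, r, hr, hr2, hmov⟩
  obtain ⟨r, hr, hmov⟩ := h.exists_moved hz hz1 hM
  obtain rfl : r = 2 := by
    by_contra hr2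
    exact hmov (hodd r hr hr2)
  refine ⟨fun e => hmov ?_, hodd⟩
  rw [e]
  exact mem_centralizer_iff.mpr fun y hy => by rw [mem_bot.mp hy]; simp

/-- The central involution. -/
theorem exists_involution (hP : ∀ C ∈ Coprime.cocyclic A, C ≠ A → ∃ z ∈ A, z ∉ C ∧ ¬ Podd p A θ z)
    {B₁ : Subgroup G} (hB₁ : B₁ ∈ Coprime.cocyclic A) (hB₁A : B₁ ≠ A)
    {Q : Subgroup G} (hQ : Q ∈ Fam p A θ) (hQ2 : IsPGroup 2 Q)
    (hQm : ∀ R ∈ Fam p A θ, IsPGroup 2 R → Q ≤ R → R = Q) :
    ∃ y : G, orderOf y = 2 ∧ y ∈ Q ∧ y ∈ centralizer (Q : Set G) ∧ y ∈ Cfsg.signalizerInf A θ := by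
  have hS := h.toSetup
  haveI := hS.comm
  set Z := Q ⊓ centralizer (Q : Set G)
  have hAQ := hS.le_normalizer_mem hQ
  have hAZ : A ≤ normalizer (Z : Set G) := inf_le_normalizer hAQ (centralizer_le_normalizer' hAQ)
  have hZ : Z ∈ Fam p A θ := hS.mem_of_le hQ inf_le_left hAZ
  haveI hZc : IsMulCommutative Z := ⟨⟨fun a b => Subtype.ext (mem_centralizer_iff.mp b.2.2 a a.2.1)⟩⟩
  have hDQ : ∀ M, InM p A θ M → core 2 M ≤ Q := fun M hM => hS.le_maxT hQ hQ2 hQm (hS.core_mem hM.1.1)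
    (core_isPGroup 2 M) ((hS.thetaA_le_inM hM).trans (le_normalizer.trans (le_normalizer_core 2 M)))
  have hcen : ∀ z ∈ A, z ≠ 1 → ¬ Podd p A θ z → Z ≤ centralizer ({z} : Set G) := by
    intro z hz hz1 hno
    by_contra hne
    obtain ⟨M, hθM, hM⟩ := hS.exists_inM hz hz1
    obtain ⟨hD1, hodd⟩ := h.p2_data hz hz1 hno hM.1 hθM
    set U := ⁅Z, zpowers z⁆
    have hUZ : U ≤ Z := hS.commutator_le hAZ hz
    have hAU := hS.le_normalizer_commutator hAZ hz
    have hZM : Z ≤ M := h.le_of_normalizes hM.1 (hS.core_mem hM.1.1) hD1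
      (le_normalizer.trans (le_normalizer_core 2 M)) hZ
      (inf_le_right.trans ((centralizer_le (SetLike.coe_subset_coe.mpr (hDQ M hM))).trans
        (centralizer_le_normalizer _)))
    have hUD : U ≤ core 2 M := by
      haveI := hM.1.1.1
      intro y hy
      have hyc : y ∈ centralizer (Cfsg.fittingOf M : Set G) := Local.Uniq.mem_centralizer_fitting fun q hq _ => by
        rcases eq_or_ne q 2 with rfl | hq2
        · exact centralizer_le (SetLike.coe_subset_coe.mpr (hDQ M hM)) (hUZ hy).2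
        · have h1 : ⁅core q M, zpowers z⁆ = ⊥ := commutator_zpowers_eq_bot.mpr fun w hw =>
            mem_centralizer_singleton_iff.mpr (mem_centralizer_iff.mp (hodd q hq.out hq2) w hw)
          have h2 : ⁅⁅zpowers z, Z⁆, core q M⁆ = ⊥ := by
            refine commutator_commutator_eq_bot_of_rotate ?_ ?_
            · refine eq_bot_iff.mpr ((commutator_mono ?_ le_rfl).trans h1.le)
              rw [commutator_comm]
              exact Coprime.commutator_le_of_le_normalizer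
                (hZM.trans (le_normalizer.trans (le_normalizer_core q M)))
            · rw [h1]; exact commutator_bot_left _
          rw [commutator_comm (zpowers z), commutator_eq_bot_iff_le_centralizer] at h2
          exact h2 hy
      have hyM : y ∈ M := hZM (hUZ hy)
      have hyF : y ∈ Cfsg.fittingOf M :=
        ⟨⟨y, hyM⟩, Core.centralizer_fitting_le_of_isSolvable (mem_centralizer_iff.mpr fun w hw =>
          Subtype.ext (mem_centralizer_iff.mp hyc _ (mem_map_of_mem _ hw))), rfl⟩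
      obtain ⟨k, hk⟩ := IsPGroup.iff_orderOf.mp hQ2 ⟨y, (hUZ hy).1⟩
      rw [Subgroup.orderOf_mk] at hk
      exact Local.Uniq.mem_core_of_fitting hyF k hk
    have hUF : U ∈ Fam p A θ := hS.mem_of_le hZ hUZ hAU
    have hUne : ⁅U, zpowers z⁆ ≠ ⊥ := by
      rw [hS.commutator_idem hAZ hZ.2.1 hz]
      exact fun e => hne (commutator_zpowers_eq_bot.mp e)
    obtain ⟨C, hC, -, hne'⟩ : ∃ C ∈ Coprime.cocyclic A, z ∉ C ∧
        ⁅U ⊓ centralizer (C : Set G), zpowers z⁆ ≠ ⊥ := by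
      by_contra! hall
      exact hUne (eq_bot_iff.mpr (hS.commutator_le_of_pieces hUF hz fun C hC hzC => (hall C hC hzC).le))
    set P := U ⊓ centralizer (C : Set G)
    have hAP : A ≤ normalizer (P : Set G) := inf_le_normalizer hAU (hS.le_normalizer_centralizer hC.1)
    haveI : IsMulCommutative P :=
      ⟨⟨fun a b => Subtype.ext (mem_centralizer_iff.mp (hUZ b.2.1).2 a (hUZ a.2.1).1)⟩⟩
    have hdis : ⁅P, zpowers z⁆ ⊓ centralizer ({z} : Set G) = ⊥ := by
      rw [← Local.FreeAction.centralizer_zpowers_eq]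
      exact disjoint_iff.mp (Coprime.disjoint_commutator_centralizer (hS.mem_normalizer_of_mem_A hAP hz)
        (by rw [Nat.card_zpowers]
            exact hS.orderOf_coprime (fun hd => hUF.2.1 (hd.trans (card_dvd_of_le inf_le_left))) hz))
    have hg := hS.good_of_piece hz hz1 hM.1.1 hθM (inf_le_left.trans hUD) hAP hC inf_le_right (Or.inl hdis) hne'
    refine h.not_all_E (h.Ov_ne_bot hg) fun a ha ha1 => ?_
    by_cases hpa : Podd p A θ a
    · exact h.podd_E hg hpa
    · obtain ⟨N, hθN, hN⟩ := hS.exists_inM ha ha1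
      exact ⟨ha, ha1, N, hN.1, hθN, (h.p2_data ha ha1 hpa hN.1 hθN).1⟩
  have hZA : Z ≤ centralizer (A : Set G) := by
    refine hS.le_of_cocyclic hAZ hZ.2.1 fun C hC => ?_
    by_cases hCA : C = A
    · rw [hCA]; exact inf_le_right
    obtain ⟨z, hz, hzC, hno⟩ := hP C hC hCA
    have hz1 : z ≠ 1 := fun e => hzC (e ▸ one_mem C)
    intro g hg
    refine mem_centralizer_iff.mpr fun a ha => ?_
    obtain ⟨b, hb, c, hc, rfl⟩ := Coprime.exists_mul_of_mem_sup
      ((zpowers_le.mpr hz).trans (abelian_le_normalizer hC.1)) ((cocyclic_sup_zpowers hS.exp hC hz hzC).ge ha)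
    have h1 := mem_centralizer_iff.mp hg.2 b hb
    have h2 := mem_centralizer_iff.mp ((Local.FreeAction.centralizer_zpowers_eq z).ge (hcen z hz hz1 hno hg.1)) c hc
    rw [mul_assoc, h2, ← mul_assoc, h1, mul_assoc]
  obtain ⟨z, hz, hzB, hno⟩ := hP B₁ hB₁ hB₁A
  have hz1 : z ≠ 1 := fun e => hzB (e ▸ one_mem B₁)
  obtain ⟨M, hθM, hM⟩ := hS.exists_inM hz hz1
  have hQ1 : Q ≠ ⊥ := fun e => (h.p2_data hz hz1 hno hM.1 hθM).1 (eq_bot_iff.mpr (e ▸ hDQ M hM))
  haveI : Nontrivial Q := (nontrivial_iff_ne_bot Q).mpr hQ1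
  haveI := hQ2.center_nontrivial
  obtain ⟨c, hc⟩ := exists_ne (1 : center Q)
  have hcZ : ((c : Q) : G) ∈ Z := ⟨(c : Q).2, mem_centralizer_iff.mpr fun w hw =>
    congrArg Subtype.val (mem_center_iff.mp c.2 ⟨w, hw⟩)⟩
  have h2Z : 2 ∣ Nat.card Z := by
    by_contra hd
    have hb := eq_bot_of_isPGroup_of_not_dvd (hQ2.to_le (inf_le_left : Z ≤ Q)) hd
    exact hc (Subtype.ext (Subtype.ext (mem_bot.mp (hb.le hcZ))))
  obtain ⟨y, hy⟩ := exists_prime_orderOf_dvd_card' 2 h2Z
  exact ⟨y, by rw [Subgroup.orderOf_coe]; exact hy, y.2.1, y.2.2,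
    hS.inf_centralizer_le_thetaA hZ ⟨y.2, hZA y.2⟩⟩

/-- The maximal member attached to the central involution. -/
theorem exists_mprime {Q : Subgroup G} (hQ : Q ∈ Fam p A θ) (hQ2 : IsPGroup 2 Q)
    (hQm : ∀ R ∈ Fam p A θ, IsPGroup 2 R → Q ≤ R → R = Q) {y : G} (hy : orderOf y = 2) (hyQ : y ∈ Q)
    (hyc : y ∈ centralizer (Q : Set G)) (hyθ : y ∈ Cfsg.signalizerInf A θ) :
    ∃ M' : Subgroup G, IsMaxMem p A θ M' ∧ Q ≤ M' ∧ ∀ w ∈ A, w ≠ 1 → pcore' 2 (θ w) ≤ M' := by
  have hS := h.toSetup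
  haveI := hS.comm
  set Y := zpowers y
  have hyA : y ∈ centralizer (A : Set G) := hS.thetaA_le_centralizer hyθ
  have hAY : A ≤ normalizer (Y : Set G) := (le_centralizer_zpowers hyA).trans (centralizer_le_normalizer _)
  have hAC : A ≤ normalizer ((centralizer ({y} : Set G) : Subgroup G) : Set G) := by
    rw [← Local.FreeAction.centralizer_zpowers_eq]; exact centralizer_le_normalizer' hAY
  have hYF : Y ∈ Fam p A θ := hS.mem_of_le hQ (zpowers_le.mpr hyQ) hAY
  have hy1 : y ≠ 1 := fun e => by rw [e, orderOf_one] at hy; omega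
  have hC : centralizer ({y} : Set G) ≤ normalizer (Y : Set G) :=
    (Local.FreeAction.centralizer_zpowers_eq y).ge.trans (centralizer_le_normalizer _)
  obtain ⟨W₀, hW₀, hW₀N, hW₀max⟩ := h.exists_closure hYF (zpowers_ne_bot.mpr hy1)
  have hW₀C := le_centralizer_of_le_normalizer_zpowers hy hW₀N
  have hQW : Q ≤ W₀ := hW₀max Q hQ ((le_trans (fun q hq =>
    mem_centralizer_singleton_iff.mpr (mem_centralizer_iff.mp hyc q hq)) hC))
  have hcopY : ∀ {T : Subgroup G}, ¬ 2 ∣ Nat.card T → (Nat.card Y).Coprime (Nat.card T) := fun {T} hT => by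
    rw [Nat.card_zpowers, hy]; exact Nat.prime_two.coprime_iff_not_dvd.mpr hT
  obtain ⟨Λ, hΛW, hΛ2, hAΛ, hΛmax⟩ :=
    exists_hall (t := 2) hW₀.1 (hS.le_normalizer_mem hW₀) (hS.coprime hW₀.2.1)
  have hyθw : ∀ w ∈ A, w ≠ 1 → y ∈ θ w := fun w hw hw1 => hS.thetaA_le hw hw1 hyθ
  have hYO : ∀ w ∈ A, w ≠ 1 → Y ≤ normalizer (pcore' 2 (θ w) : Set G) := fun w hw hw1 =>
    zpowers_le.mpr ((le_normalizer.trans (le_normalizer_pcore' 2 (θ w))) (hyθw w hw hw1))
  have hAO : ∀ w ∈ A, w ≠ 1 → A ≤ normalizer (pcore' 2 (θ w) : Set G) := fun w hw hw1 =>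
    (hS.le_normalizer_theta hw hw1).trans (le_normalizer_pcore' 2 (θ w))
  set ψ : G → Subgroup G := fun w => ⁅pcore' 2 (θ w), Y⁆ ⊔ (θ w ⊓ Λ) with hψ
  have hNO : ∀ w ∈ A, w ≠ 1 → ⁅pcore' 2 (θ w), Y⁆ ≤ pcore' 2 (θ w) := fun w hw hw1 =>
    Coprime.commutator_le_of_le_normalizer (hYO w hw hw1)
  have hψle : ∀ w ∈ A, w ≠ 1 → ψ w ≤ θ w := fun w hw hw1 =>
    sup_le ((hNO w hw hw1).trans (pcore'_le 2 _)) inf_le_left
  have hΛC : Λ ≤ centralizer (Y : Set G) :=
    (hΛW.trans hW₀C).trans (Local.FreeAction.centralizer_zpowers_eq y).ge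
  have hnorm : ∀ w : G, θ w ⊓ Λ ≤ normalizer ((⁅pcore' 2 (θ w), Y⁆ : Subgroup G) : Set G) := fun w =>
    SSFT.commutator_le_normalizer (inf_le_left.trans (le_normalizer.trans (le_normalizer_pcore' 2 _)))
      ((inf_le_right.trans hΛC).trans (centralizer_le_normalizer _))
  have hN2 : ∀ w ∈ A, w ≠ 1 → ¬ 2 ∣ Nat.card ↥⁅pcore' 2 (θ w), Y⁆ := fun w hw hw1 hd =>
    not_dvd_card_pcore' 2 (θ w) (hd.trans (card_dvd_of_le (hNO w hw hw1)))
  have hψ2 : ∀ w ∈ A, w ≠ 1 → ¬ 2 ∣ Nat.card (ψ w) := fun w hw hw1 =>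
    not_dvd_card_sup (hnorm w) (hN2 w hw hw1) (fun hd => hΛ2 (hd.trans (card_dvd_of_le inf_le_right)))
  have hAψ : ∀ w ∈ A, w ≠ 1 → A ≤ normalizer (ψ w : Set G) := fun w hw hw1 =>
    sup_le_normalizer (SSFT.commutator_le_normalizer (hAO w hw hw1) hAY)
      (inf_le_normalizer (hS.le_normalizer_theta hw hw1) hAΛ)
  have hYψ : ∀ w, Y ≤ normalizer (ψ w : Set G) := fun w =>
    sup_le_normalizer (normalizer_commutator_ge_right _ _)
      ((le_centralizer_iff.mp (inf_le_right.trans hΛC)).trans (centralizer_le_normalizer _))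
  have hψN : ∀ w ∈ A, w ≠ 1 → ⁅ψ w, Y⁆ ≤ ⁅pcore' 2 (θ w), Y⁆ := fun w hw hw1 => by
    refine Subgroup.commutator_le.mpr fun g hg c hc => ?_
    obtain ⟨n, hn, k, hk, rfl⟩ := Coprime.exists_mul_of_mem_sup (hnorm w) hg
    have hkc : c * k = k * c := mem_centralizer_iff.mp (hΛC hk.2) c hc
    rw [show ⁅n * k, c⁆ = ⁅n, c⁆ by
      rw [commutatorElement_def, commutatorElement_def, mul_inv_rev,
        show n * k * c * (k⁻¹ * n⁻¹) * c⁻¹ = n * (k * c * k⁻¹) * n⁻¹ * c⁻¹ by group, ← hkc, mul_inv_cancel_right]]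
    exact commutator_mem_commutator (hNO w hw hw1 hn) hc
  have hψ' : Setup p A ψ := by
    refine ⟨hS.elem, hS.rank, ⟨fun a ha ha1 => (hψle a ha ha1).trans (hS.theta_le_centralizer ha ha1),
      fun a ha ha1 hd => hS.func.1.2.1 a ha ha1 (hd.trans (card_dvd_of_le (hψle a ha ha1))),
      fun a ha ha1 => Sig.invariant_of_le_normalizer (hAψ a ha ha1), fun a ha ha1 b hb hb1 => ?_⟩,
      fun a ha ha1 => Core.isSolvable_of_le (hψle a ha ha1) (hS.func.2 a ha ha1)⟩
    set T := ψ a ⊓ centralizer ({b} : Set G)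
    have hTb : T ≤ θ b := (inf_le_inf_right _ (hψle a ha ha1)).trans (hS.balance ha ha1 hb hb1)
    have hT2 : ¬ 2 ∣ Nat.card T := fun hd => hψ2 a ha ha1 (hd.trans (card_dvd_of_le inf_le_left))
    have hYT : Y ≤ normalizer (T : Set G) := inf_le_normalizer (hYψ a) (by
      refine le_trans ?_ le_normalizer
      refine zpowers_le.mpr (mem_centralizer_singleton_iff.mpr ?_)
      exact (mem_centralizer_iff.mp hyA b hb).symm)
    have hYP : Y ≤ ppcore 2 (θ b) := by
      obtain ⟨S, hS'⟩ := hS.sylow_maxT hQ hQ2 hQm (hS.theta_mem hb hb1) (hS.thetaA_le hb hb1)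
      refine le_ppcore_of_commutator (hS.func.2 b hb hb1) (zpowers_le.mpr (hyθw b hb hb1))
        (commutator_ppcore_le S ((zpowers_le.mpr (hyθw b hb hb1)).trans le_normalizer)
          (le_trans (le_of_eq ?_) bot_le))
      rw [commutator_zpowers_eq_bot, hS']
      exact fun q hq => mem_centralizer_singleton_iff.mpr (mem_centralizer_iff.mp hyc q hq.2.1)
    have hTY : ⁅T, Y⁆ ≤ pcore' 2 (θ b) := by
      refine le_pcore'_of_le_ppcore ?_ (fun hd => hT2 (hd.trans (card_dvd_of_le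
        (Coprime.commutator_le_of_le_normalizer hYT))))
      refine (commutator_mono hTb hYP).trans ?_
      rw [commutator_comm]
      exact Coprime.commutator_le_of_le_normalizer (le_normalizer.trans (le_normalizer_ppcore 2 (θ b)))
    rw [← Coprime.commutator_sup_centralizer_eq hYT (hcopY hT2) (Or.inl (isSolvable_zpowers y))]
    refine sup_le ?_ ?_
    · rw [← Coprime.commutator_commutator_eq hYT (hcopY hT2) (Or.inl (isSolvable_zpowers y))]
      exact (commutator_mono hTY le_rfl).trans le_sup_left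
    refine le_trans (le_inf (inf_le_left.trans hTb) ?_) le_sup_right
    set N := ⁅pcore' 2 (θ a), Y⁆ ⊓ centralizer ({y} : Set G) with hN
    have hNK : N ≤ Λ := by
      have hAN : A ≤ normalizer (N : Set G) :=
        inf_le_normalizer (SSFT.commutator_le_normalizer (hAO a ha ha1) hAY) hAC
      have hNF : N ∈ Fam p A θ :=
        hS.mem_of_le (hS.theta_mem ha ha1) ((inf_le_left.trans (hNO a ha ha1)).trans (pcore'_le 2 _)) hAN
      refine hΛmax N (hW₀max N hNF (inf_le_right.trans hC))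
        (fun hd => hN2 a ha ha1 (hd.trans (card_dvd_of_le inf_le_left))) hAN ?_
      have h1 : W₀ ⊓ centralizer (A : Set G) ≤ θ a ⊓ centralizer ({y} : Set G) :=
        le_inf ((hS.inf_centralizer_le_thetaA hW₀).trans (hS.thetaA_le ha ha1)) (inf_le_left.trans hW₀C)
      exact h1.trans (inf_le_normalizer (SSFT.commutator_le_normalizer
        (inf_le_left.trans (le_normalizer.trans (le_normalizer_pcore' 2 _))) (inf_le_right.trans hC))
        (inf_le_right.trans le_normalizer))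
    rintro g ⟨hg, hgy⟩
    obtain ⟨n, hn, k, hk, rfl⟩ := Coprime.exists_mul_of_mem_sup (hnorm a) hg.1
    have hky : k ∈ centralizer ({y} : Set G) := hW₀C (hΛW hk.2)
    refine mul_mem (hNK ⟨hn, ?_⟩) hk.2
    simpa using mul_mem (show n * k ∈ centralizer ({y} : Set G) from
      (Local.FreeAction.centralizer_zpowers_eq y).le hgy) (inv_mem hky)
  obtain ⟨a₀, ha₀, ha₀1⟩ := hS.exists_point
  obtain ⟨U, hU, hUψ⟩ := h.smaller ψ hψ' hψle ⟨a₀, ha₀, ha₀1, fun e => hψ2 a₀ ha₀ ha₀1 (by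
    rw [e, ← hy]
    have h1 := orderOf_dvd_natCard (⟨y, hyθw a₀ ha₀ ha₀1⟩ : θ a₀)
    rwa [Subgroup.orderOf_mk] at h1)⟩
  have hAU : A ≤ normalizer (U : Set G) := Sig.le_normalizer_of_invariant hU.2.2.1
  have hUθ : U ∈ Fam p A θ :=
    ⟨hU.1, hU.2.1, hU.2.2.1, fun a ha ha1 => (hU.2.2.2 a ha ha1).trans (hψle a ha ha1)⟩
  have hU2 : ¬ 2 ∣ Nat.card U := by
    obtain ⟨S, hAS⟩ := Coprime.exists_invariant_sylow hAU (hS.coprime hU.2.1) (Or.inr hU.1) 2
    set P := (S : Subgroup U).map U.subtype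
    have hP : P = ⊥ := eq_bot_iff.mpr <| hS.le_of_cocyclic hAS
      (fun hd => hU.2.1 (hd.trans (card_dvd_of_le (map_subtype_le _)))) fun C hC => by
      obtain ⟨b, hb, hb1⟩ := hS.exists_ne_one hC
      refine (eq_bot_of_isPGroup_of_not_dvd (t := 2) ((S.2.map _).to_le inf_le_left) fun hd => ?_).le
      exact hψ2 b (hC.1 hb) hb1 (hd.trans (card_dvd_of_le
        ((inf_le_inf_right _ (map_subtype_le _)).trans (hψ'.inf_centralizer_le hU hC.1 hb hb1))))
    intro hd
    have h1 : 2 ∣ Nat.card P := by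
      rw [card_map_of_injective U.subtype_injective]; exact S.dvd_card_of_dvd_card hd
    rw [hP, card_bot] at h1
    omega
  have hYU : Y ≤ normalizer (U : Set G) := by
    refine le_normalizer_of_iSup (Coprime.le_iSup_centralizer_cocyclic U hAU (hS.coprime hU.2.1))
      fun g hg C z hz => ?_
    by_cases hC : C ∈ Coprime.cocyclic A
    · rw [iSup_pos hC] at hz
      obtain ⟨b, hb, hb1⟩ := hS.exists_ne_one hC
      exact hUψ b (hC.1 hb) hb1 (conj_mem_of_mem_normalizer' (hYψ b hg) (hψ'.inf_centralizer_le hU hC.1 hb hb1 hz))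
    · rw [iSup_neg hC, mem_bot] at hz
      subst hz; simp
  set J := ⁅U, Y⁆
  have hJU : J ≤ U := Coprime.commutator_le_of_le_normalizer hYU
  have hAJ : A ≤ normalizer (J : Set G) := SSFT.commutator_le_normalizer hAU hAY
  have hJ : J ∈ Fam p A θ := hS.mem_of_le hUθ hJU hAJ
  have hOJ : ∀ w ∈ A, w ≠ 1 → ⁅pcore' 2 (θ w), Y⁆ ≤ J := fun w hw hw1 => by
    rw [← Coprime.commutator_commutator_eq (hYO w hw hw1) (hcopY (not_dvd_card_pcore' 2 _))
      (Or.inl (isSolvable_zpowers y))]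
    exact commutator_mono (le_sup_left.trans (hUψ w hw hw1)) le_rfl
  have hCO : ∀ w ∈ A, w ≠ 1 → pcore' 2 (θ w) ⊓ centralizer (Y : Set G) ≤ W₀ := fun w hw hw1 =>
    hW₀max _ (hS.mem_of_le (hS.theta_mem hw hw1) (inf_le_left.trans (pcore'_le 2 _))
      (inf_le_normalizer (hAO w hw hw1) (centralizer_le_normalizer' hAY)))
      (inf_le_right.trans (centralizer_le_normalizer _))
  have hsplit : ∀ w ∈ A, w ≠ 1 → ∀ T : Subgroup G, J ≤ T → W₀ ≤ T → pcore' 2 (θ w) ≤ T := by
    intro w hw hw1 T hJT hWT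
    rw [← Coprime.commutator_sup_centralizer_eq (hYO w hw hw1) (hcopY (not_dvd_card_pcore' 2 _))
      (Or.inl (isSolvable_zpowers y))]
    exact sup_le ((hOJ w hw hw1).trans hJT) ((hCO w hw hw1).trans hWT)
  by_cases hJ1 : J = ⊥
  · obtain ⟨M', hle, hM'⟩ := hS.exists_isMax_ge hW₀
    exact ⟨M', hM', hQW.trans hle, fun w hw hw1 => hsplit w hw hw1 M' (hJ1 ▸ bot_le) hle⟩
  obtain ⟨W, hW, -, hWmax⟩ := h.exists_closure hJ hJ1
  have hCW : ∀ w ∈ A, w ≠ 1 → θ w ⊓ centralizer ({y} : Set G) ≤ normalizer (J : Set G) := by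
    intro w hw hw1
    refine hS.le_of_cocyclic (inf_le_normalizer (hS.le_normalizer_theta hw hw1) hAC)
      (fun hd => hS.func.1.2.1 w hw hw1 (hd.trans (card_dvd_of_le inf_le_left))) fun B hB => ?_
    haveI : IsMulCommutative B := ⟨⟨fun a b => Subtype.ext (setLike_mul_comm (hB.1 a.2) (hB.1 b.2))⟩⟩
    refine le_normalizer_of_iSup (T := fun C : Subgroup G => ⨆ _ : C ∈ Coprime.cocyclic B,
      ⁅J ⊓ centralizer (C : Set G), Y⁆) ?_ fun g hg C z hz => ?_
    · conv_lhs => rw [show J = ⁅J, Y⁆ from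
        (Coprime.commutator_commutator_eq hYU (hcopY hU2) (Or.inl (isSolvable_zpowers y))).symm]
      exact commutator_zpowers_le_iSup (A := B) (centralizer_le (SetLike.coe_subset_coe.mpr hB.1) hyA) J hJ.1
        (hB.1.trans hAJ) ((hS.coprime hJ.2.1).coprime_dvd_left (card_dvd_of_le hB.1))
        ((normalizer_commutator_ge_right U Y) (mem_zpowers y))
        (by rw [hy]; exact Nat.prime_two.coprime_iff_not_dvd.mpr fun hd => hU2 (hd.trans (card_dvd_of_le hJU)))
    · by_cases hC' : C ∈ Coprime.cocyclic B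
      · rw [iSup_pos hC'] at hz
        have hB2 : p ^ 2 ≤ Nat.card B := Nat.le_of_mul_le_mul_left
          (by rw [← pow_succ']; exact hS.rank.trans (card_le_mul_of_cocyclic hS.exp hB)) hp.out.pos
        obtain ⟨l, hl, hl1⟩ : ∃ l ∈ C, l ≠ 1 := C.bot_or_exists_ne_one.resolve_left
          (cocyclic_ne_bot (fun a ha => hS.exp a (hB.1 ha)) hB2 hC')
        have hlA : l ∈ A := hB.1 (hC'.1 hl)
        have hgl : g ∈ θ l ⊓ centralizer ({y} : Set G) :=
          ⟨hS.inf_centralizer_le (hS.theta_mem hw hw1) hB.1 (hC'.1 hl) hl1 ⟨hg.1.1, hg.2⟩, hg.1.2⟩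
        have hle : ⁅J ⊓ centralizer (C : Set G), Y⁆ ≤ ⁅pcore' 2 (θ l), Y⁆ :=
          (commutator_mono ((inf_le_inf_right _ hJU).trans
            (hψ'.inf_centralizer_le hU (hC'.1.trans hB.1) hl hl1)) le_rfl).trans (hψN l hlA hl1)
        refine hOJ l hlA hl1 (conj_mem_of_mem_normalizer' ?_ (hle hz))
        exact SSFT.commutator_le_normalizer (X := θ l ⊓ centralizer ({y} : Set G))
          (inf_le_left.trans (le_normalizer.trans (le_normalizer_pcore' 2 _))) (inf_le_right.trans hC) hgl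
      · rw [iSup_neg hC', mem_bot] at hz
        subst hz; simp
  have hCW' : ∀ w ∈ A, w ≠ 1 → θ w ⊓ centralizer ({y} : Set G) ≤ W := fun w hw hw1 =>
    hWmax _ (hS.mem_of_le (hS.theta_mem hw hw1) inf_le_left (inf_le_normalizer (hS.le_normalizer_theta hw hw1) hAC))
      (hCW w hw hw1)
  have hW₀W : W₀ ≤ W := hS.le_of_theta hW₀ fun a ha ha1 =>
    (le_inf inf_le_right (inf_le_left.trans hW₀C)).trans (hCW' a ha ha1)
  obtain ⟨M', hle, hM'⟩ := hS.exists_isMax_ge hW
  exact ⟨M', hM', hQW.trans (hW₀W.trans hle),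
    fun w hw hw1 => hsplit w hw hw1 M' ((hWmax J hJ le_normalizer).trans hle) (hW₀W.trans hle)⟩

end MC

end Cfsg.Lib.Sig.SSFT
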