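import Cfsg.Agent.Lib.Sig.SSFT.Alpha

/-!
# Intersections of cores

The intersection of the cores `O_s (M)` over the maximal members `M` containing some value of the functor.
-/

set_option autoImplicit false
set_option linter.style.haveILetI false
set_option linter.unusedSectionVars false

namespace Cfsg.Lib.Sig.SSFT

open Subgroup
open scoped commutatorElement Pointwise

universe u

variable {G : Type u} [Group G] [Finite G]

/-- An `s`-member centralized by a subgroup of index at most `p`, lying in the core of every member containing it. -/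
structure Good (p : ℕ) (A : Subgroup G) (θ : G → Subgroup G) (s : ℕ) (B H : Subgroup G) : Prop where
  cocyclic : B ∈ Coprime.cocyclic A
  mem : H ∈ Fam p A θ
  ne_bot : H ≠ ⊥
  centralizes : H ≤ centralizer (B : Set G)
  le_core : ∀ K ∈ Fam p A θ, H ≤ K → H ≤ core s K

/-- The intersection of the nontrivial cores `O_s (M)`. -/
def Ov (p : ℕ) (A : Subgroup G) (θ : G → Subgroup G) (s : ℕ) : Subgroup G :=
  ⨅ M : {M : Subgroup G // InM p A θ M ∧ core s M ≠ ⊥}, core s (M : Subgroup G)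

/-- Some maximal member containing `θ a` has a nontrivial core at `s`. -/
def E (p : ℕ) (A : Subgroup G) (θ : G → Subgroup G) (s : ℕ) (a : G) : Prop :=
  a ∈ A ∧ a ≠ 1 ∧ ∃ M : Subgroup G, IsMaxMem p A θ M ∧ θ a ≤ M ∧ core s M ≠ ⊥

/-- Every subgroup of index at most `p` has a point in `E`. -/
def Dense (p : ℕ) (A : Subgroup G) (θ : G → Subgroup G) (s : ℕ) : Prop :=
  ∀ L ∈ Coprime.cocyclic A, ∃ y ∈ L, E p A θ s y

variable {p : ℕ} [hp : Fact p.Prime] {A : Subgroup G} {θ : G → Subgroup G}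

namespace Setup

variable (hS : Setup p A θ)
include hS

theorem core_mem {s : ℕ} {M : Subgroup G} (hM : M ∈ Fam p A θ) : core s M ∈ Fam p A θ :=
  hS.mem_of_le hM (core_le s M) ((hS.le_normalizer_mem hM).trans (le_normalizer_core s M))

theorem ne_p {s : ℕ} [hs : Fact s.Prime] {U : Subgroup G} (hU : U ∈ Fam p A θ) (hUs : IsPGroup s U)
    (hU1 : U ≠ ⊥) : p ≠ s := by
  rintro rfl
  obtain ⟨i, hi⟩ := IsPGroup.iff_card.mp hUs
  rcases Nat.eq_zero_or_pos i with rfl | hi0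
  · exact hU1 (eq_bot_of_card_eq _ (by rw [hi, pow_zero]))
  · exact hU.2.1 (hi ▸ dvd_pow_self p hi0.ne')

/-- A moved piece of a core lies in the core of every member containing it. -/
theorem piece_le_core {s : ℕ} [hs : Fact s.Prime] {v : G} (hv : v ∈ A) (hv1 : v ≠ 1) {M P : Subgroup G}
    (hM : M ∈ Fam p A θ) (hθ : θ v ≤ M) (hP : P ≤ core s M) (hAP : A ≤ normalizer (P : Set G))
    (hs2 : ⁅P, zpowers v⁆ ⊓ centralizer ({v} : Set G) = ⊥ ∨ s ≠ 2) {K : Subgroup G} (hK : K ∈ Fam p A θ)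
    (hle : ⁅P, zpowers v⁆ ≤ K) : ⁅P, zpowers v⁆ ≤ core s K := by
  by_cases hU1 : ⁅P, zpowers v⁆ = ⊥
  · rw [hU1]; exact bot_le
  have hP' : P ∈ Fam p A θ := hS.mem_of_le hM (hP.trans (core_le s M)) hAP
  have hUs : IsPGroup s ↥⁅P, zpowers v⁆ :=
    (core_isPGroup s M).to_le ((hS.commutator_le hAP hv).trans hP)
  have hAU := hS.le_normalizer_commutator hAP hv
  refine le_core_of_fixed (p := p) (hS.ne_p (hS.mem_of_le hP' (hS.commutator_le hAP hv) hAU) hUs hU1) hK.1 hK.2.1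
    (hS.le_normalizer_mem hK hv) (hS.exp v hv) hle hUs (hAU hv) ?_ (core_isPGroup s M)
    ((hS.commutator_le hAP hv).trans hP)
    (((hK.2.2.2 v hv hv1).trans hθ).trans (le_normalizer.trans (le_normalizer_core s M)))
  exact hs2.imp_right fun h2 => ⟨h2, (hS.commutator_idem hAP hP'.2.1 hv).ge⟩

theorem good_of_piece {s : ℕ} [hs : Fact s.Prime] {v : G} (hv : v ∈ A) (hv1 : v ≠ 1) {M P B : Subgroup G}
    (hM : M ∈ Fam p A θ) (hθ : θ v ≤ M) (hP : P ≤ core s M) (hAP : A ≤ normalizer (P : Set G))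
    (hB : B ∈ Coprime.cocyclic A) (hPB : P ≤ centralizer (B : Set G))
    (hs2 : ⁅P, zpowers v⁆ ⊓ centralizer ({v} : Set G) = ⊥ ∨ s ≠ 2) (hne : ⁅P, zpowers v⁆ ≠ ⊥) :
    Good p A θ s B ⁅P, zpowers v⁆ :=
  ⟨hB, hS.mem_of_le hM (((hS.commutator_le hAP hv).trans hP).trans (core_le s M))
    (hS.le_normalizer_commutator hAP hv), hne, (hS.commutator_le hAP hv).trans hPB,
    fun _ hK hle => hS.piece_le_core hv hv1 hM hθ hP hAP hs2 hK hle⟩

theorem le_normalizer_core_piece {s : ℕ} {M B : Subgroup G} (hM : M ∈ Fam p A θ)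
    (hB : B ≤ A) : A ≤ normalizer ((core s M ⊓ centralizer (B : Set G) : Subgroup G) : Set G) :=
  inf_le_normalizer ((hS.le_normalizer_mem hM).trans (le_normalizer_core s M)) (hS.le_normalizer_centralizer hB)

/-- On a subgroup centralized by `B`, commutation with `A` is commutation with any `y ∉ B`. -/
theorem commutator_le_of_notMem {P B : Subgroup G} (hB : B ∈ Coprime.cocyclic A) {y v : G} (hy : y ∈ A)
    (hyB : y ∉ B) (hv : v ∈ A) (hAP : A ≤ normalizer (P : Set G)) (hPB : P ≤ centralizer (B : Set G)) :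
    ⁅P, zpowers v⁆ ≤ ⁅P, zpowers y⁆ := by
  haveI := hS.comm
  refine Subgroup.commutator_le.mpr fun g hg a ha => ?_
  obtain ⟨b, hb, c, hc, rfl⟩ := Coprime.exists_mul_of_mem_sup
    ((zpowers_le.mpr hy).trans (abelian_le_normalizer hB.1))
    ((cocyclic_sup_zpowers hS.exp hB hy hyB).ge ((zpowers_le.mpr hv : zpowers v ≤ A) ha))
  have hgc : ⁅g, c⁆ ∈ P := hS.commutator_le hAP hy (commutator_mem_commutator hg hc)
  have h1 : b * g = g * b := mem_centralizer_iff.mp (hPB hg) b hb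
  have h2 : b * ⁅g, c⁆ = ⁅g, c⁆ * b := mem_centralizer_iff.mp (hPB hgc) b hb
  have h3 : ⁅g, b⁆ = 1 := commutatorElement_eq_one_iff_mul_comm.mpr h1.symm
  rw [show ⁅g, b * c⁆ = ⁅g, b⁆ * (b * ⁅g, c⁆ * b⁻¹) by simp only [commutatorElement_def]; group,
    h3, one_mul, h2, mul_inv_cancel_right]
  exact commutator_mem_commutator hg hc

theorem commutator_eq_bot_of_mem {P B : Subgroup G} {v : G} (hv : v ∈ B)
    (hPB : P ≤ centralizer (B : Set G)) : ⁅P, zpowers v⁆ = ⊥ :=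
  commutator_zpowers_eq_bot.mpr (hPB.trans (centralizer_le (Set.singleton_subset_iff.mpr hv)))

/-- The `[U, v]` is contained in a subgroup once all its pieces are. -/
theorem commutator_le_of_pieces {U T : Subgroup G} (hU : U ∈ Fam p A θ) {v : G} (hv : v ∈ A)
    (h : ∀ B ∈ Coprime.cocyclic A, v ∉ B → ⁅U ⊓ centralizer (B : Set G), zpowers v⁆ ≤ T) :
    ⁅U, zpowers v⁆ ≤ T := by
  haveI := hS.comm
  refine (commutator_zpowers_le_iSup (A := A) (hS.mem_centralizer_A hv) U hU.1 (hS.le_normalizer_mem hU)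
    (hS.coprime hU.2.1) (hS.le_normalizer_mem hU hv) (hS.orderOf_coprime hU.2.1 hv)).trans
    (iSup₂_le fun B hB => ?_)
  by_cases hvB : v ∈ B
  · rw [hS.commutator_eq_bot_of_mem hvB inf_le_right]; exact bot_le
  · exact h B hB hvB

/-- A moved odd core yields a good piece. -/
theorem exists_good {r : ℕ} [hr : Fact r.Prime] (hr2 : r ≠ 2) {x : G} (hx : x ∈ A) (hx1 : x ≠ 1)
    {M : Subgroup G} (hM : M ∈ Fam p A θ) (hθ : θ x ≤ M) (hmov : x ∉ centralizer (core r M : Set G)) :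
    ∃ B H, Good p A θ r B H ∧ x ∉ B := by
  by_contra! hno
  refine hmov (mem_centralizer_iff.mpr fun z hz => mem_centralizer_singleton_iff.mp
    (commutator_zpowers_eq_bot.mp (eq_bot_iff.mpr ?_) hz))
  refine hS.commutator_le_of_pieces (hS.core_mem hM) hx fun B hB hxB => ?_
  by_contra hne
  exact hxB (hno B _ (hS.good_of_piece hx hx1 hM hθ inf_le_left (hS.le_normalizer_core_piece hM hB.1) hB
    inf_le_right (Or.inr hr2) fun e => hne e.le))

omit hS in
theorem le_Ov {s : ℕ} {X : Subgroup G} (hX : ∀ M, InM p A θ M → core s M ≠ ⊥ → X ≤ core s M) :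
    X ≤ Ov p A θ s :=
  le_iInf fun M => hX M M.2.1 M.2.2

omit hS in
theorem Ov_le {s : ℕ} {M : Subgroup G} (hM : InM p A θ M) (hne : core s M ≠ ⊥) : Ov p A θ s ≤ core s M :=
  iInf_le (fun M : {M : Subgroup G // InM p A θ M ∧ core s M ≠ ⊥} => core s (M : Subgroup G)) ⟨M, hM, hne⟩

omit hS in
theorem _root_.Cfsg.Lib.Sig.SSFT.E.inM {s : ℕ} {y : G} (hy : E p A θ s y) :
    ∃ M, InM p A θ M ∧ θ y ≤ M ∧ core s M ≠ ⊥ :=
  let ⟨hyA, hy1, M, hM, hle, hne⟩ := hy
  ⟨M, ⟨hM, y, hyA, hy1, hle⟩, hle, hne⟩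

theorem Ov_mem {s : ℕ} {y : G} (hy : E p A θ s y) : Ov p A θ s ∈ Fam p A θ := by
  obtain ⟨M, hM, -, hne⟩ := hy.inM
  refine hS.mem_of_le (hS.core_mem hM.1.1) (Ov_le hM hne) ?_
  exact (le_iInf fun N : {M : Subgroup G // InM p A θ M ∧ core s M ≠ ⊥} =>
    (hS.le_normalizer_mem N.2.1.1.1).trans (le_normalizer_core s _)).trans
      (iInf_normalizer_le_normalizer_iInf _)

theorem E_of_good {s : ℕ} {B H : Subgroup G} (hg : Good p A θ s B H) {b : G} (hb : b ∈ B) (hb1 : b ≠ 1) :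
    E p A θ s b := by
  obtain ⟨M, hle, hM⟩ := hS.exists_inM (hg.cocyclic.1 hb) hb1
  have hH : H ≤ θ b :=
    (le_inf le_rfl hg.centralizes).trans (hS.inf_centralizer_le hg.mem hg.cocyclic.1 hb hb1)
  exact ⟨hg.cocyclic.1 hb, hb1, M, hM.1, hle,
    fun e => hg.ne_bot (eq_bot_iff.mpr (e ▸ hg.le_core M hM.1.1 (hH.trans hle)))⟩

theorem dense_of_good {s : ℕ} {B H : Subgroup G} (hg : Good p A θ s B H) : Dense p A θ s := fun L hL => by
  obtain ⟨y, hyB, hyL, hy1⟩ := hS.exists_ne_one_inf hg.cocyclic hL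
  exact ⟨y, hyL, hS.E_of_good hg hyB hy1⟩

end Setup

namespace MC

variable (h : MC p A θ)
include h

/-- A subgroup in suitable cores over every subgroup of index at most `p` lies in every core. -/
theorem le_core_of_forall_cocyclic {s : ℕ} [hs : Fact s.Prime] {X : Subgroup G}
    (hAX : A ≤ normalizer (X : Set G))
    (hX : ∀ L ∈ Coprime.cocyclic A, ∃ y ∈ L, y ≠ 1 ∧ ∃ M, IsMaxMem p A θ M ∧ θ y ≤ M ∧ X ≤ core s M)
    {M : Subgroup G} (hM : InM p A θ M) (hne : core s M ≠ ⊥) : X ≤ core s M := by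
  have hS := h.toSetup
  haveI := hS.comm
  obtain ⟨Q, hQ, hQs, hQm⟩ := hS.exists_maxT s
  have hle : ∀ N : Subgroup G, N ∈ Fam p A θ → Cfsg.signalizerInf A θ ≤ N → core s N ≤ Q := fun N hN hθN =>
    hS.le_maxT hQ hQs hQm (hS.core_mem hN) (core_isPGroup s N)
      (hθN.trans (le_normalizer.trans (le_normalizer_core s N)))
  obtain ⟨y0, hy0, hy01, M0, hM0, hθ0, hX0⟩ := hX A (self_mem_cocyclic A)
  set D := core s M
  have hDQ : D ≤ Q := hle M hM.1.1 (hS.thetaA_le_inM hM)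
  have hSQ : X ⊔ D ≤ Q := sup_le (hX0.trans (hle M0 hM0.1 ((hS.thetaA_le hy0 hy01).trans hθ0))) hDQ
  have hAD : A ≤ normalizer (D : Set G) := (hS.le_normalizer_mem hM.1.1).trans (le_normalizer_core s M)
  suffices hN : (X ⊔ D) ⊓ normalizer (D : Set G) ≤ D by
    by_contra hXD
    have hlt : D < X ⊔ D := right_lt_sup.mpr hXD
    haveI : Group.IsNilpotent (X ⊔ D : Subgroup G) := (hQs.to_le hSQ).isNilpotent
    obtain ⟨w, hwn, hw⟩ := SetLike.exists_of_lt (Group.normalizerCondition_of_isNilpotent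
      (D.subgroupOf (X ⊔ D)) (lt_top_iff_ne_top.mpr fun e => hlt.not_ge (subgroupOf_eq_top.mp e)))
    refine hw (mem_subgroupOf.mpr (hN ⟨w.2, ?_⟩))
    have h1 := le_normalizer_map _ (mem_map_of_mem (X ⊔ D).subtype hwn)
    rwa [map_subgroupOf_eq_of_le (le_sup_right : D ≤ X ⊔ D)] at h1
  set N := (X ⊔ D) ⊓ normalizer (D : Set G)
  have hAN : A ≤ normalizer (N : Set G) :=
    inf_le_normalizer (sup_le_normalizer hAX hAD) (hAD.trans le_normalizer)
  have hN' : N ∈ Fam p A θ := hS.mem_of_le hQ (inf_le_left.trans hSQ) hAN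
  have hNM : N ≤ M :=
    h.le_of_normalizes hM.1 (hS.core_mem hM.1.1) hne (le_normalizer.trans (le_normalizer_core s M)) hN' inf_le_right
  refine le_core_of_cocyclic hM.1.1.1 (hS.le_normalizer_mem hM.1.1) (hS.coprime hM.1.1.2.1) hNM
    (hQs.to_le (inf_le_left.trans hSQ)) fun L hL => ?_
  obtain ⟨y, hy, hy1, My, hMy, hθy, hXy⟩ := hX L hL
  refine ⟨core s My ⊔ D, hQs.to_le (sup_le (hle My hMy.1 ((hS.thetaA_le (hL.1 hy) hy1).trans hθy)) hDQ),
    inf_le_left.trans (sup_le_sup_right hXy D), sup_le_normalizer ?_ ?_⟩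
  · exact ((hS.inf_centralizer_le hM.1.1 hL.1 hy hy1).trans hθy).trans (le_normalizer.trans (le_normalizer_core s My))
  · exact inf_le_left.trans (le_normalizer.trans (le_normalizer_core s M))

theorem good_le_Ov {s : ℕ} [hs : Fact s.Prime] {B H : Subgroup G} (hg : Good p A θ s B H) :
    H ≤ Ov p A θ s := by
  have hS := h.toSetup
  refine Setup.le_Ov fun M hM hne => h.le_core_of_forall_cocyclic (hS.le_normalizer_mem hg.mem)
    (fun L hL => ?_) hM hne
  obtain ⟨y, hyB, hyL, hy1⟩ := hS.exists_ne_one_inf hg.cocyclic hL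
  obtain ⟨N, hle, hN⟩ := hS.exists_inM (hL.1 hyL) hy1
  refine ⟨y, hyL, hy1, N, hN.1, hle, hg.le_core N hN.1.1 (le_trans ?_ hle)⟩
  exact (le_inf le_rfl hg.centralizes).trans (hS.inf_centralizer_le hg.mem hg.cocyclic.1 hyB hy1)

theorem Ov_ne_bot {s : ℕ} [hs : Fact s.Prime] {B H : Subgroup G} (hg : Good p A θ s B H) :
    Ov p A θ s ≠ ⊥ := fun e => hg.ne_bot (eq_bot_iff.mpr (e ▸ h.good_le_Ov hg))

/-- Outside `E`, the intersection of the cores has no fixed points. -/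
theorem Ov_inf_centralizer_eq_bot {s : ℕ} [hs : Fact s.Prime] (hd : Dense p A θ s) {v : G} (hv : v ∈ A)
    (hv1 : v ≠ 1) (hvE : ¬ E p A θ s v) : Ov p A θ s ⊓ centralizer ({v} : Set G) = ⊥ := by
  have hS := h.toSetup
  haveI := hS.comm
  obtain ⟨y0, -, hy0⟩ := hd A (self_mem_cocyclic A)
  have hO := hS.Ov_mem hy0
  obtain ⟨M, hθM, hM⟩ := hS.exists_inM hv hv1
  have hcore : core s M = ⊥ := by
    by_contra hne
    exact hvE ⟨hv, hv1, M, hM.1, hθM, hne⟩
  obtain ⟨M0, hM0, -, hne0⟩ := hy0.inM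
  refine eq_bot_iff.mpr ((le_core_of_cocyclic hM.1.1.1 (hS.le_normalizer_mem hM.1.1) (hS.coprime hM.1.1.2.1)
    ((hO.2.2.2 v hv hv1).trans hθM) ((core_isPGroup s M0).to_le (inf_le_left.trans (Setup.Ov_le hM0 hne0)))
    fun L hL => ?_).trans hcore.le)
  obtain ⟨y, hy, hyE⟩ := hd L hL
  obtain ⟨My, hMy, hθy, hney⟩ := hyE.inM
  exact ⟨core s My, core_isPGroup s My, inf_le_left.trans (Setup.Ov_le hMy hney),
    ((hS.inf_centralizer_le hM.1.1 hL.1 hy hyE.2.1).trans hθy).trans (le_normalizer.trans (le_normalizer_core s My))⟩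

/-- The subgroup normalized by `θ (L)`: the intersection of the cores over the points of `L`. -/
theorem exists_normalized {s : ℕ} {L : Subgroup G} (hL : L ≤ A) (hy : ∃ y ∈ L, E p A θ s y) :
    ∃ V ∈ Fam p A θ, Ov p A θ s ≤ V ∧ Cfsg.signalizerInf L θ ≤ normalizer (V : Set G) ∧
      ∀ y ∈ L, E p A θ s y → ∃ M, IsMaxMem p A θ M ∧ θ y ≤ M ∧ V ≤ core s M := by
  have hS := h.toSetup
  set V : Subgroup G := ⨅ q : {q : G × Subgroup G // q.1 ∈ L ∧ q.1 ≠ 1 ∧ IsMaxMem p A θ q.2 ∧ θ q.1 ≤ q.2 ∧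
    core s q.2 ≠ ⊥}, core s q.1.2 with hV
  have hVle : ∀ y ∈ L, E p A θ s y → ∃ M, IsMaxMem p A θ M ∧ θ y ≤ M ∧ V ≤ core s M := by
    rintro y hy ⟨-, hy1, M, hM, hle, hne⟩
    exact ⟨M, hM, hle, iInf_le_of_le ⟨(y, M), hy, hy1, hM, hle, hne⟩ le_rfl⟩
  obtain ⟨y, hyL, hyE⟩ := hy
  obtain ⟨M, hM, -, hVM⟩ := hVle y hyL hyE
  refine ⟨V, hS.mem_of_le (hS.core_mem hM.1) hVM ?_, le_iInf fun q => ?_, ?_, hVle⟩
  · exact (le_iInf fun q : {q : G × Subgroup G // q.1 ∈ L ∧ q.1 ≠ 1 ∧ IsMaxMem p A θ q.2 ∧ θ q.1 ≤ q.2 ∧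
      core s q.2 ≠ ⊥} => (hS.le_normalizer_mem q.2.2.2.1.1).trans (le_normalizer_core s _)).trans
        (iInf_normalizer_le_normalizer_iInf _)
  · exact Setup.Ov_le ⟨q.2.2.2.1, q.1.1, hL q.2.1, q.2.2.1, q.2.2.2.2.1⟩ q.2.2.2.2.2
  · refine le_trans (le_iInf fun q => ?_) (iInf_normalizer_le_normalizer_iInf _)
    exact ((iInf_le (fun b : {a : G // a ∈ L ∧ a ≠ 1} => θ b) ⟨q.1.1, q.2.1, q.2.2.1⟩).trans q.2.2.2.2.1).trans
      (le_normalizer.trans (le_normalizer_core s _))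

/-- `θ (L)` normalizes the intersection of the cores when every point of `L` is in `E`. -/
theorem le_normalizer_Ov_of_all {s : ℕ} [hs : Fact s.Prime] {L : Subgroup G} (hL : L ∈ Coprime.cocyclic A)
    (hall : ∀ l ∈ L, l ≠ 1 → E p A θ s l) :
    Cfsg.signalizerInf L θ ≤ normalizer (Ov p A θ s : Set G) := by
  have hS := h.toSetup
  obtain ⟨l, hl, hl1⟩ := hS.exists_ne_one hL
  obtain ⟨V, hV, hOV, hnorm, hVle⟩ := h.exists_normalized hL.1 ⟨l, hl, hall l hl hl1⟩
  have : V = Ov p A θ s := le_antisymm (Setup.le_Ov fun M hM hne =>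
    h.le_core_of_forall_cocyclic (hS.le_normalizer_mem hV) (fun L' hL' => by
      obtain ⟨y, hyL, hyL', hy1⟩ := hS.exists_ne_one_inf hL hL'
      exact ⟨y, hyL', hy1, hVle y hyL (hall y hyL hy1)⟩) hM hne) hOV
  rwa [← this]

/-- Not every point is in `E` when some intersection of cores is nontrivial. -/
theorem not_all_E {s : ℕ} [hs : Fact s.Prime] (hne : Ov p A θ s ≠ ⊥)
    (hall : ∀ a ∈ A, a ≠ 1 → E p A θ s a) : False := by
  have hS := h.toSetup
  obtain ⟨a, ha, ha1⟩ := hS.exists_point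
  refine h.noInv _ (hS.Ov_mem (hall a ha ha1)) hne fun w hw hw1 => ?_
  refine hS.le_of_cocyclic (hS.le_normalizer_theta hw hw1) (hS.func.1.2.1 w hw hw1) fun B hB => ?_
  refine le_trans (le_iInf fun b => ?_) (h.le_normalizer_Ov_of_all hB fun l hl hl1 => hall l (hB.1 hl) hl1)
  exact hS.inf_centralizer_le (hS.theta_mem hw hw1) hB.1 b.2.1 b.2.2

/-- `θ (L)` normalizes the intersection of the cores when the points of `L` in `E` generate `L`. -/
theorem le_normalizer_Ov {s : ℕ} [hs : Fact s.Prime] (hs2 : s ≠ 2) {B H L : Subgroup G}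
    (hg : Good p A θ s B H) (hL : L ∈ Coprime.cocyclic A)
    (hgen : ∀ C ∈ Coprime.cocyclic A, ¬ L ≤ C → ∃ y ∈ L, y ∉ C ∧ E p A θ s y) :
    Cfsg.signalizerInf L θ ≤ normalizer (Ov p A θ s : Set G) := by
  have hS := h.toSetup
  by_cases hall : ∀ l ∈ L, l ≠ 1 → E p A θ s l
  · exact h.le_normalizer_Ov_of_all hL hall
  push Not at hall
  obtain ⟨v, hv, hv1, hvE⟩ := hall
  have hd := hS.dense_of_good hg
  obtain ⟨V, hV, hOV, hnorm, hVle⟩ := h.exists_normalized hL.1 (hd L hL)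
  have hvA := hL.1 hv
  have hfix := h.Ov_inf_centralizer_eq_bot hd hvA hv1 hvE
  obtain ⟨y0, -, hy0⟩ := hd L hL
  have hO := hS.Ov_mem hy0
  have hOeq : Ov p A θ s = ⁅Ov p A θ s, zpowers v⁆ := by
    conv_lhs => rw [hS.commutator_split (hS.le_normalizer_mem hO) hO.2.1 hvA, hfix, sup_bot_eq]
  have hVv : ⁅V, zpowers v⁆ = Ov p A θ s := by
    refine le_antisymm (hS.commutator_le_of_pieces hV hvA fun C hC hvC => ?_)
      (hOeq.le.trans (commutator_mono hOV le_rfl))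
    obtain ⟨y, hy, hyC, hyE⟩ := hgen C hC fun hle => hvC (hle hv)
    obtain ⟨M, hM, hθy, hVM⟩ := hVle y hy hyE
    have hAP : A ≤ normalizer ((V ⊓ centralizer (C : Set G) : Subgroup G) : Set G) :=
      inf_le_normalizer (hS.le_normalizer_mem hV) (hS.le_normalizer_centralizer hC.1)
    refine (hS.commutator_le_of_notMem hC (hL.1 hy) hyC hvA hAP inf_le_right).trans ?_
    by_cases hU : ⁅V ⊓ centralizer (C : Set G), zpowers y⁆ = ⊥
    · rw [hU]; exact bot_le
    · exact h.good_le_Ov (hS.good_of_piece (hL.1 hy) hyE.2.1 hM.1 hθy (inf_le_left.trans hVM) hAP hC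
        inf_le_right (Or.inr hs2) hU)
  rw [← hVv]
  refine SSFT.commutator_le_normalizer hnorm ?_
  refine le_trans (iInf_le (fun b : {a : G // a ∈ L ∧ a ≠ 1} => θ b) ⟨v, hv, hv1⟩) ?_
  rw [zpowers_eq_closure]
  exact (hS.theta_le_centralizer hvA hv1).trans (by
    rw [← zpowers_eq_closure, ← Local.FreeAction.centralizer_zpowers_eq]
    exact centralizer_le_normalizer _)

/-- A point with a moved odd core is in `E`. -/
theorem E_of_moved {s : ℕ} [hs : Fact s.Prime] {B H : Subgroup G} (hg : Good p A θ s B H) {r : ℕ}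
    [hr : Fact r.Prime] (hr2 : r ≠ 2) {z : G} (hz : z ∈ A) (hz1 : z ≠ 1) {M : Subgroup G}
    (hM : IsMaxMem p A θ M) (hθ : θ z ≤ M) (hmov : z ∉ centralizer (core r M : Set G)) :
    E p A θ s z := by
  have hS := h.toSetup
  rcases eq_or_ne r s with rfl | hrs
  · refine ⟨hz, hz1, M, hM, hθ, fun e => hmov ?_⟩
    rw [e]; exact mem_centralizer_iff.mpr fun y hy => by rw [mem_bot.mp hy]; simp
  set D := core r M
  set X := ⁅D, zpowers z⁆
  have hD := hS.core_mem (s := r) hM.1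
  have hAX := hS.le_normalizer_commutator (hS.le_normalizer_mem hD) hz
  have hX : X ∈ Fam p A θ := hS.mem_of_le hD (hS.commutator_le (hS.le_normalizer_mem hD) hz) hAX
  have hX1 : X ≠ ⊥ := fun e => hmov (mem_centralizer_iff.mpr fun y hy =>
    mem_centralizer_singleton_iff.mp (commutator_zpowers_eq_bot.mp e hy))
  have hθX : θ z ≤ normalizer (X : Set G) := SSFT.commutator_le_normalizer
    (hθ.trans (le_normalizer.trans (le_normalizer_core r M))) (by
      refine (hS.theta_le_centralizer hz hz1).trans ?_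
      rw [← Local.FreeAction.centralizer_zpowers_eq]
      exact centralizer_le_normalizer _)
  have hXH : X ≤ centralizer (H : Set G) := by
    refine hS.commutator_le_of_pieces hD hz fun C hC hzC => ?_
    by_cases hU : ⁅D ⊓ centralizer (C : Set G), zpowers z⁆ = ⊥
    · rw [hU]; exact bot_le
    have hgU := hS.good_of_piece hz hz1 hM.1 hθ inf_le_left (hS.le_normalizer_core_piece hM.1 hC.1) hC
      inf_le_right (Or.inr hr2) hU
    obtain ⟨b, hbB, hbC, hb1⟩ := hS.exists_ne_one_inf hg.cocyclic hC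
    have hθb := hS.theta_mem (hC.1 hbC) hb1
    exact ((hgU.le_core _ hθb ((le_inf le_rfl hgU.centralizes).trans
      (hS.inf_centralizer_le hgU.mem hC.1 hbC hb1))).trans (Local.Uniq.core_commute (θ b) hrs)).trans
      (centralizer_le (SetLike.coe_subset_coe.mpr (hg.le_core _ hθb ((le_inf le_rfl hg.centralizes).trans
        (hS.inf_centralizer_le hg.mem hg.cocyclic.1 hbB hb1)))))
  obtain ⟨W, hW, -, hWmax⟩ := h.exists_closure hX hX1
  obtain ⟨N, hWN, hN⟩ := hS.exists_isMax_ge hW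
  have hHN : H ≤ N :=
    (hWmax H hg.mem ((le_centralizer_iff.mp hXH).trans (centralizer_le_normalizer _))).trans hWN
  exact ⟨hz, hz1, N, hN, (hWmax _ (hS.theta_mem hz hz1) hθX).trans hWN,
    fun e => hg.ne_bot (eq_bot_iff.mpr (e ▸ hg.le_core N hN.1 hHN))⟩

end MC

end Cfsg.Lib.Sig.SSFT
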