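import Cfsg.Agent.Lib.Sig.SSFT.CaseB

/-!
# The solvable signalizer functor theorem

Induction on the order of the group and on the sum of the orders of the values of the functor.
-/

set_option autoImplicit false
set_option linter.style.haveILetI false
set_option linter.unusedSectionVars false

namespace Cfsg.Lib.Sig.SSFT

open Subgroup
open scoped commutatorElement Pointwise

universe u

variable {p : ℕ} [hp : Fact p.Prime]

theorem MC.false {G : Type u} [Group G] [Finite G] {A : Subgroup G} {θ : G → Subgroup G}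
    (h : MC p A θ) : False := by
  have hS := h.toSetup
  obtain ⟨a, ha, ha1⟩ := hS.exists_point
  have hA : (⊥ : Subgroup G) < A := bot_lt_iff_ne_bot.mpr fun e => ha1 (by rw [e, mem_bot] at ha; exact ha)
  obtain ⟨B₁, -, hlt, hmax⟩ := (Set.toFinite {B : Subgroup G | B < A}).exists_le_maximal (a := ⊥) hA
  obtain ⟨b, hb, hbB⟩ := SetLike.exists_of_lt (show B₁ < A from hlt)
  have hB₁ : B₁ ∈ Coprime.cocyclic A := by
    refine ⟨hlt.le, b, hb, le_antisymm (sup_le hlt.le (zpowers_le.mpr hb)) ?_⟩
    by_contra hne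
    have h1 : B₁ ⊔ zpowers b < A := lt_of_le_of_ne (sup_le hlt.le (zpowers_le.mpr hb)) fun e => hne e.ge
    exact hbB ((hmax (show B₁ ⊔ zpowers b ∈ {B : Subgroup G | B < A} from h1) le_sup_left) (mem_sup_right (mem_zpowers b)))
  by_cases hP : ∀ C ∈ Coprime.cocyclic A, C ≠ A → ∃ z ∈ A, z ∉ C ∧ ¬ Podd p A θ z
  · exact h.caseB hP hB₁ hlt.ne
  · push Not at hP
    obtain ⟨C, hC, hCA, hodd⟩ := hP
    exact h.caseA hC hCA hodd

/-- Completeness passes from the quotient by an invariant member to the group. -/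
theorem complete_of_normalizes {G : Type u} [Group G] [Finite G] {A : Subgroup G} {θ : G → Subgroup G}
    (hS : Setup p A θ) {K : Subgroup G} (hK : K ∈ Fam p A θ) (hK1 : K ≠ ⊥)
    (hN : ∀ a ∈ A, a ≠ 1 → θ a ≤ normalizer (K : Set G))
    (ih : ∀ {H : Type u} [Group H] [Finite H], Nat.card H < Nat.card G →
      ∀ {B : Subgroup H} {φ : H → Subgroup H}, Setup p B φ → Complete p B φ) :
    Complete p A θ := by
  haveI := hS.comm
  set L := normalizer (K : Set G) with hL
  have hAL : A ≤ L := hS.le_normalizer_mem hK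
  have hKL : K ≤ L := le_normalizer
  haveI : (K.subgroupOf L).Normal := subgroupOf_normal hKL le_rfl
  set f := QuotientGroup.mk' (K.subgroupOf L) with hf
  set g : A →* L ⧸ K.subgroupOf L := f.comp (inclusion hAL) with hg
  have hd : ∀ {x : G}, x ∈ A → x ∈ K → x = 1 := fun {x} h1 h2 => disjoint_def.mp
    (Coprime.disjoint_of_coprime_card (hS.coprime hK.2.1)) h1 h2
  have hginj : Function.Injective g := by
    rw [injective_iff_map_eq_one]
    intro a ha
    exact Subtype.ext (hd a.2 (mem_subgroupOf.mp ((QuotientGroup.eq_one_iff (inclusion hAL a)).mp ha)))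
  set A' := g.range with hA'
  set θ' : L ⧸ K.subgroupOf L → Subgroup (L ⧸ K.subgroupOf L) := fun z =>
    ⨆ a : {a : A // g a = z}, ((θ ((a : A) : G)).subgroupOf L).map f with hθ'
  have hval : ∀ a : A, θ' (g a) = ((θ (a : G)).subgroupOf L).map f := fun a => le_antisymm
    (iSup_le fun b => by rw [hginj b.2]) (le_iSup_of_le ⟨a, rfl⟩ le_rfl)
  have hne1 : ∀ {a : A}, g a ≠ 1 → (a : G) ≠ 1 := fun {a} hne e => hne (by
    rw [show a = 1 from Subtype.ext e, map_one])
  have hmapconj : ∀ {T : Subgroup G}, A ≤ normalizer (T : Set G) → ∀ b : A, ∀ x ∈ (T.subgroupOf L).map f,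
      g b * x * (g b)⁻¹ ∈ (T.subgroupOf L).map f := by
    rintro T hT b _ ⟨x, hx, rfl⟩
    refine ⟨inclusion hAL b * x * (inclusion hAL b)⁻¹,
      mem_subgroupOf.mpr (conj_mem_of_mem_normalizer' (hT b.2) hx), ?_⟩
    simp [hg]
  have hcardmap : ∀ T : Subgroup G, Nat.card ↥((T.subgroupOf L).map f) ∣ Nat.card T := fun T => by
    refine (Core.card_map_dvd f (T.subgroupOf L)).trans ?_
    exact card_dvd_of_injective (((Subgroup.subtype _).comp (Subgroup.subtype (T.subgroupOf L))).codRestrict T
      fun x => x.2) fun x y e => Subtype.ext (Subtype.ext (congrArg (fun z : T => (z : G)) e))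
  have hsolmap : ∀ T : Subgroup G, Group.IsSolvable T → Group.IsSolvable ((T.subgroupOf L).map f) := fun T hT => by
    haveI := hT
    haveI : Group.IsSolvable (T.subgroupOf L) := Group.isSolvable_of_isSolvable_injective
      (f := ((Subgroup.subtype _).comp (Subgroup.subtype (T.subgroupOf L))).codRestrict T fun x => x.2)
      fun x y e => Subtype.ext (Subtype.ext (congrArg (fun z : T => (z : G)) e))
    exact Group.isSolvable_of_surjective (f.subgroupMap_surjective _)
  have hS' : Setup p A' θ' := by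
    refine ⟨⟨?_, ?_⟩, ?_, ⟨⟨?_, ?_, ?_, ?_⟩, ?_⟩⟩
    · exact ⟨⟨fun x y => by
        obtain ⟨⟨_, a, rfl⟩, ⟨_, b, rfl⟩⟩ := x, y
        exact Subtype.ext (by simp [← map_mul, mul_comm' a b])⟩⟩
    · rintro _ ⟨a, rfl⟩
      rw [← map_pow, show a ^ p = 1 from Subtype.ext (hS.exp a a.2), map_one]
    · rw [show Nat.card A' = Nat.card A from (Nat.card_congr (MonoidHom.ofInjective hginj).toEquiv).symm]
      exact hS.rank
    · rintro _ ⟨a, rfl⟩ hne
      rw [hval]
      rintro _ ⟨x, hx, rfl⟩
      refine mem_centralizer_singleton_iff.mpr ?_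
      rw [show g a = f (inclusion hAL a) from rfl, ← map_mul, ← map_mul]
      exact congrArg f (Subtype.ext (mem_centralizer_singleton_iff.mp
        (hS.theta_le_centralizer a.2 (hne1 hne) hx)))
    · rintro _ ⟨a, rfl⟩ hne hdv
      rw [hval] at hdv
      exact hS.func.1.2.1 a a.2 (hne1 hne) (hdv.trans (hcardmap _))
    · rintro _ ⟨a, rfl⟩ hne _ ⟨b, rfl⟩ x hx
      rw [hval] at hx ⊢
      exact hmapconj (hS.le_normalizer_theta a.2 (hne1 hne)) b x hx
    · rintro _ ⟨a, rfl⟩ hne _ ⟨b, rfl⟩ hneb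
      rw [hval, hval, ← Local.FreeAction.centralizer_zpowers_eq,
        show g b = f (inclusion hAL b) from rfl, ← MonoidHom.map_zpowers, ← Coprime.map_inf_centralizer_eq f
          (G := (θ (a : G)).subgroupOf L) (A := zpowers (inclusion hAL b))
          (zpowers_le.mpr (mem_normalizer_iff.mpr fun v => mem_normalizer_iff.mp
            (hS.le_normalizer_theta a.2 (hne1 hne) b.2) (v : G)))
          (by
            rw [Nat.card_zpowers, Nat.card_congr (subgroupOfEquivOfLe (hN a a.2 (hne1 hne))).toEquiv,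
              ← orderOf_coe, show ((inclusion hAL b : L) : G) = (b : G) from rfl]
            exact hS.orderOf_coprime (hS.func.1.2.1 a a.2 (hne1 hne)) b.2)
          (Or.inl (isSolvable_zpowers _))]
      refine map_mono fun x hx => ?_
      exact hS.balance a.2 (hne1 hne) b.2 (hne1 hneb) ⟨hx.1, mem_centralizer_singleton_iff.mpr
        (congrArg Subtype.val (mem_centralizer_iff.mp hx.2 _ (mem_zpowers _))).symm⟩
    · rintro _ ⟨a, rfl⟩ hne
      rw [hval]
      exact hsolmap _ (hS.func.2 a a.2 (hne1 hne))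
  have hcard : Nat.card (L ⧸ K.subgroupOf L) < Nat.card G := by
    have h1 := (K.subgroupOf L).card_eq_card_quotient_mul_card_subgroup
    rw [Nat.card_congr (subgroupOfEquivOfLe hKL).toEquiv] at h1
    have h2 : 1 < Nat.card K := (one_lt_card_iff_ne_bot K).mpr hK1
    have h3 : Nat.card L ≤ Nat.card G := card_le_card_group L
    have h4 : 0 < Nat.card (L ⧸ K.subgroupOf L) := Nat.card_pos
    nlinarith
  obtain ⟨U', hU', hU'θ⟩ := ih hcard hS'
  set U := (U'.comap f).map L.subtype with hU
  have hKU : K ≤ U := fun k hk => ⟨⟨k, hKL hk⟩, mem_comap.mpr (by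
    rw [show f ⟨k, hKL hk⟩ = 1 from (QuotientGroup.eq_one_iff _).mpr hk]; exact one_mem _), rfl⟩
  refine ⟨U, ⟨?_, ?_, ?_, ?_⟩, fun a ha ha1 x hx => ?_⟩
  · haveI := hU'.1
    haveI := hK.1
    haveI : Group.IsSolvable (U'.comap f) := by
      set r := f.subgroupComap U'
      haveI : Group.IsSolvable (K.subgroupOf L) :=
        Group.isSolvable_of_isSolvable_injective (f := (subgroupOfEquivOfLe hKL).toMonoidHom)
          (subgroupOfEquivOfLe hKL).injective
      exact Group.isSolvable_of_ker_le_range (inclusion (H := K.subgroupOf L) (K := U'.comap f) fun x hx =>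
        mem_comap.mpr (by rw [show f x = 1 from (QuotientGroup.eq_one_iff _).mpr hx]; exact one_mem _)) r
        (fun x hx => ⟨⟨(x : L), (QuotientGroup.eq_one_iff _).mp (congrArg Subtype.val hx)⟩, rfl⟩)
    exact Group.isSolvable_of_surjective (L.subtype.subgroupMap_surjective _)
  · rw [card_map_of_injective L.subtype_injective]
    intro hdv
    have h1 : Nat.card (U'.comap f) = Nat.card U' * Nat.card K := by
      have h2 := ((K.subgroupOf L).subgroupOf (U'.comap f)).card_mul_index
      have hle : K.subgroupOf L ≤ U'.comap f := fun x hx => mem_comap.mpr (by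
        rw [show f x = 1 from (QuotientGroup.eq_one_iff _).mpr hx]; exact one_mem _)
      rw [Nat.card_congr (subgroupOfEquivOfLe hle).toEquiv, Nat.card_congr (subgroupOfEquivOfLe hKL).toEquiv] at h2
      have h3 : ((K.subgroupOf L).subgroupOf (U'.comap f)).index = Nat.card U' := by
        rw [show (K.subgroupOf L).subgroupOf (U'.comap f) = (f.subgroupComap U').ker from ?_, index_ker,
          MonoidHom.range_eq_top.mpr (MonoidHom.subgroupComap_surjective_of_surjective f U'
            (QuotientGroup.mk'_surjective _)), card_top]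
        ext x
        rw [mem_subgroupOf, MonoidHom.mem_ker, Subtype.ext_iff]
        exact (QuotientGroup.eq_one_iff _).symm
      rw [← h2, h3, mul_comm]
    rw [h1] at hdv
    rcases hp.out.dvd_mul.mp hdv with h2 | h2
    · exact hU'.2.1 h2
    · exact hK.2.1 h2
  · rintro b hb _ ⟨x, hx, rfl⟩
    refine ⟨⟨b, hAL hb⟩ * x * ⟨b, hAL hb⟩⁻¹, mem_comap.mpr ?_, rfl⟩
    rw [map_mul, map_mul, map_inv]
    exact hU'.2.2.1 (g ⟨b, hb⟩) ⟨⟨b, hb⟩, rfl⟩ _ hx
  · intro a ha ha1
    rintro _ ⟨⟨x, hx, rfl⟩, hxa⟩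
    have hne : g ⟨a, ha⟩ ≠ 1 := fun e => ha1 (congrArg Subtype.val (hginj (e.trans (map_one g).symm)))
    have h1 : f x ∈ U' ⊓ centralizer ({g ⟨a, ha⟩} : Set _) := by
      refine ⟨hx, mem_centralizer_singleton_iff.mpr ?_⟩
      rw [show g ⟨a, ha⟩ = f ⟨a, hAL ha⟩ from rfl, ← map_mul, ← map_mul]
      exact congrArg f (Subtype.ext (mem_centralizer_singleton_iff.mp hxa))
    have h2 := hU'.2.2.2 _ ⟨⟨a, ha⟩, rfl⟩ hne h1
    rw [hval] at h2
    obtain ⟨y, hy, hye⟩ := h2
    have hk : ((x * y⁻¹ : L) : G) ∈ K := mem_subgroupOf.mp ((QuotientGroup.eq_one_iff _).mp (by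
      show f (x * y⁻¹) = 1
      rw [map_mul, map_inv, hye, mul_inv_cancel]))
    have hka : ((x * y⁻¹ : L) : G) ∈ θ a := hK.2.2.2 a ha ha1 ⟨hk, by
      simpa using mul_mem (show (x : G) ∈ centralizer ({a} : Set G) from hxa)
        (inv_mem (hS.theta_le_centralizer ha ha1 (show (y : G) ∈ θ a from hy)))⟩
    simpa using mul_mem hka (show (y : G) ∈ θ a from hy)
  · have hne : g ⟨a, ha⟩ ≠ 1 := fun e => ha1 (congrArg Subtype.val (hginj (e.trans (map_one g).symm)))
    refine ⟨⟨x, hN a ha ha1 hx⟩, mem_comap.mpr (hU'θ _ ⟨⟨a, ha⟩, rfl⟩ hne ?_), rfl⟩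
    rw [hval]
    exact mem_map_of_mem f hx

theorem complete_aux : ∀ n : ℕ, ∀ {G : Type u} [Group G] [Finite G], Nat.card G < n →
    ∀ {A : Subgroup G} {θ : G → Subgroup G}, Setup p A θ → Complete p A θ := by
  intro n
  induction n with
  | zero => intro G _ _ h; exact absurd h (Nat.not_lt_zero _)
  | succ n ih =>
    intro G _ _ hn A θ hS
    classical
    haveI : Fintype G := Fintype.ofFinite G
    suffices key : ∀ m : ℕ, ∀ θ : G → Subgroup G, Setup p A θ →
        (∑ a ∈ Finset.univ.filter (fun a => a ∈ A ∧ a ≠ 1), Nat.card (θ a)) < m → Complete p A θ from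
      key _ θ hS (Nat.lt_succ_self _)
    intro m
    induction m with
    | zero => intro θ _ h; exact absurd h (Nat.not_lt_zero _)
    | succ m ihm =>
      intro θ hS hm
      by_contra hinc
      refine MC.false ⟨hS, hinc, fun ψ hψ hle hne => ihm ψ hψ ?_, fun K hK hK1 hN => hinc
        (complete_of_normalizes hS hK hK1 hN fun {H} _ _ hH {B φ} hB => ih (by omega) hB)⟩
      refine lt_of_lt_of_le (Finset.sum_lt_sum (fun a ha => ?_) ?_) (Nat.le_of_lt_succ hm)
      · rw [Finset.mem_filter] at ha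
        exact card_le_of_le (hle a ha.2.1 ha.2.2)
      · obtain ⟨a, ha, ha1, hane⟩ := hne
        exact ⟨a, Finset.mem_filter.mpr ⟨Finset.mem_univ a, ha, ha1⟩,
          lt_of_le_of_ne (card_le_of_le (hle a ha ha1))
            fun e => hane (eq_of_le_of_card_ge (hle a ha ha1) e.ge)⟩

/-- The solvable signalizer functor theorem. -/
theorem complete {G : Type u} [Group G] [Finite G] {A : Subgroup G} {θ : G → Subgroup G}
    (hS : Setup p A θ) : Complete p A θ :=
  complete_aux _ (Nat.lt_succ_self _) hS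

end Cfsg.Lib.Sig.SSFT
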