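import Cfsg.Agent.Lib.Local.Uniq.Core
import Cfsg.Agent.Lib.Local.FixedFreeOperator
import Cfsg.Agent.Lib.Local.FreeAction
import Cfsg.Agent.Lib.Coprime.Generation
import Cfsg.Agent.Lib.Coprime.PGroupAction
import Cfsg.Agent.Lib.Core.PSolvable
import Cfsg.Agent.Lib.Sig.Small

/-!
# Tools for the solvable signalizer functor theorem

Cores `O_t (K)`, `O_{q'} (K)`, `O_{q',q} (K)` of a subgroup `K`, and criteria for a subgroup to lie in
them in terms of fixed points of coprime operators.
-/

set_option autoImplicit false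
set_option linter.style.haveILetI false

namespace Cfsg.Lib.Sig.SSFT

open Subgroup
open scoped commutatorElement

universe u

variable {G : Type u} [Group G] [Finite G]

/-- `O_t (K)` as a subgroup of the ambient group. -/
abbrev core (t : ℕ) (K : Subgroup G) : Subgroup G := (Cfsg.pCore t K).map K.subtype

/-- `O_{q'} (K)` as a subgroup of the ambient group. -/
abbrev pcore' (q : ℕ) (K : Subgroup G) : Subgroup G := (Cfsg.pPrimeCore q K).map K.subtype

/-- `O_{q',q} (K)` as a subgroup of the ambient group. -/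
abbrev ppcore (q : ℕ) (K : Subgroup G) : Subgroup G := (Cfsg.pPrimePCore q K).map K.subtype

instance pCore_char (t : ℕ) (H : Type u) [Group H] [Finite H] : (Cfsg.pCore t H).Characteristic :=
  characteristic_iff_map_eq.2 fun e => Core.map_pCore_equiv e

instance pPrimePCore_char (q : ℕ) (H : Type u) [Group H] [Finite H] :
    (Cfsg.pPrimePCore q H).Characteristic := by
  rw [Subgroup.characteristic_iff_le_comap]
  intro φ x hx
  show QuotientGroup.mk' (Cfsg.pPrimeCore q H) (φ.toMonoidHom x) ∈ Cfsg.pCore q (H ⧸ Cfsg.pPrimeCore q H)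
  have hW : (Cfsg.pPrimeCore q H).map φ.toMonoidHom = Cfsg.pPrimeCore q H := Core.map_pPrimeCore_equiv φ
  exact (Core.map_pCore_equiv (p := q) (QuotientGroup.congr _ _ φ hW)).le ⟨_, hx, rfl⟩

omit [Finite G] in
theorem core_le (t : ℕ) (K : Subgroup G) : core t K ≤ K := map_subtype_le _

omit [Finite G] in
theorem pcore'_le (q : ℕ) (K : Subgroup G) : pcore' q K ≤ K := map_subtype_le _

omit [Finite G] in
theorem ppcore_le (q : ℕ) (K : Subgroup G) : ppcore q K ≤ K := map_subtype_le _

theorem core_isPGroup (t : ℕ) (K : Subgroup G) : IsPGroup t (core t K) :=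
  (Core.pCore_isPGroup t K).map _

theorem le_normalizer_core (t : ℕ) (K : Subgroup G) :
    normalizer (K : Set G) ≤ normalizer (core t K : Set G) :=
  Core.normalizer_le_normalizer_map_char _

theorem le_normalizer_pcore' (q : ℕ) (K : Subgroup G) :
    normalizer (K : Set G) ≤ normalizer (pcore' q K : Set G) :=
  Core.normalizer_le_normalizer_map_char _

theorem le_normalizer_ppcore (q : ℕ) (K : Subgroup G) :
    normalizer (K : Set G) ≤ normalizer (ppcore q K : Set G) :=
  Core.normalizer_le_normalizer_map_char _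

omit [Finite G] in
theorem pcore'_le_ppcore (q : ℕ) (K : Subgroup G) : pcore' q K ≤ ppcore q K :=
  map_mono ((QuotientGroup.ker_mk' _).symm.trans_le (ker_le_comap _ _))

theorem not_dvd_card_pcore' (q : ℕ) [Fact q.Prime] (K : Subgroup G) :
    ¬ q ∣ Nat.card (pcore' q K) := by
  rw [card_map_of_injective K.subtype_injective]
  exact Core.pPrimeCore_not_dvd q K

omit [Finite G] in
theorem subgroupOf_normal {K N : Subgroup G} (hN : N ≤ K) (h : K ≤ normalizer (N : Set G)) :
    (N.subgroupOf K).Normal :=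
  (normal_subgroupOf_iff_le_normalizer hN).mpr h

omit [Finite G] in
theorem le_core {t : ℕ} {K N : Subgroup G} (hNK : N ≤ K) (h : K ≤ normalizer (N : Set G))
    (hN : IsPGroup t N) : N ≤ core t K := by
  rw [← map_subgroupOf_eq_of_le hNK]
  exact map_mono (Core.le_pCore' (subgroupOf_normal hNK h)
    (hN.of_equiv (subgroupOfEquivOfLe hNK).symm))

omit [Finite G] in
theorem le_pcore' {q : ℕ} [hq : Fact q.Prime] {K N : Subgroup G} (hNK : N ≤ K)
    (h : K ≤ normalizer (N : Set G)) (hN : ¬ q ∣ Nat.card N) : N ≤ pcore' q K := by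
  rw [← map_subgroupOf_eq_of_le hNK]
  refine map_mono (Core.le_pPrimeCore' (subgroupOf_normal hNK h) ?_)
  rw [Nat.card_congr (subgroupOfEquivOfLe hNK).toEquiv]
  exact Core.coprime_iff_not_dvd'.2 hN

theorem not_dvd_of_isPGroup {q t : ℕ} [hq : Fact q.Prime] [ht : Fact t.Prime] (hqt : q ≠ t)
    {U : Subgroup G} (hU : IsPGroup t U) : ¬ q ∣ Nat.card U := by
  obtain ⟨i, hi⟩ := IsPGroup.iff_card.mp hU
  rw [hi]
  exact fun h => hqt ((Nat.prime_dvd_prime_iff_eq hq.out ht.out).1 (hq.out.dvd_of_dvd_pow h))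

theorem coprime_card_of_not_dvd {q : ℕ} [hq : Fact q.Prime] {P U : Subgroup G} (hP : IsPGroup q P)
    (hU : ¬ q ∣ Nat.card U) : (Nat.card P).Coprime (Nat.card U) := by
  obtain ⟨i, hi⟩ := IsPGroup.iff_card.mp hP
  rw [hi]
  exact (hq.out.coprime_iff_not_dvd.2 hU).pow_left i

/-- A `q'`-subgroup of `O_{q',q} (K)` lies in `O_{q'} (K)`. -/
theorem le_pcore'_of_le_ppcore {q : ℕ} [hq : Fact q.Prime] {K T : Subgroup G} (hT : T ≤ ppcore q K)
    (hqT : ¬ q ∣ Nat.card T) : T ≤ pcore' q K := by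
  intro x hx
  obtain ⟨y, hy, rfl⟩ := hT hx
  refine ⟨y, (QuotientGroup.eq_one_iff y).mp ?_, rfl⟩
  have h1 : orderOf (QuotientGroup.mk' (Cfsg.pPrimeCore q K) y) ∣ Nat.card T :=
    (orderOf_map_dvd _ y).trans (by
      have h0 : orderOf (⟨K.subtype y, hx⟩ : T) ∣ Nat.card T := orderOf_dvd_natCard _
      rw [Subgroup.orderOf_mk] at h0
      rw [← Subgroup.orderOf_coe]
      exact h0)
  obtain ⟨k, hk⟩ := (Core.pCore_isPGroup q _) ⟨QuotientGroup.mk' (Cfsg.pPrimeCore q K) y, hy⟩
  have h2 : orderOf (QuotientGroup.mk' (Cfsg.pPrimeCore q K) y) ∣ q ^ k :=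
    orderOf_dvd_of_pow_eq_one (by simpa using congrArg Subtype.val hk)
  rw [show QuotientGroup.mk y = QuotientGroup.mk' (Cfsg.pPrimeCore q K) y from rfl, ← orderOf_eq_one_iff]
  exact Nat.eq_one_of_dvd_coprimes ((hq.out.coprime_iff_not_dvd.2 hqT).pow_left k) h2 h1

/-- `O_{q',q} (K)` contains every subgroup of `K` centralizing it modulo `O_{q'} (K)`. -/
theorem le_ppcore_of_commutator {q : ℕ} [hq : Fact q.Prime] {K U : Subgroup G}
    (hK : Group.IsSolvable K) (hUK : U ≤ K) (h : ⁅ppcore q K, U⁆ ≤ pcore' q K) : U ≤ ppcore q K := by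
  haveI := hK
  intro x hx
  refine ⟨⟨x, hUK hx⟩, mem_comap.mpr ?_, rfl⟩
  refine Core.centralizer_pCore_le_of_isPSolvable Core.isPSolvable_of_isSolvable
    Core.pPrimeCore_quotient_eq_bot (mem_centralizer_iff.mpr fun z hz => ?_)
  obtain ⟨w, rfl⟩ := QuotientGroup.mk'_surjective _ z
  have hw : (w : G) ∈ ppcore q K := mem_map_of_mem _ hz
  obtain ⟨v, hv, hve⟩ := h (commutator_mem_commutator hw hx)
  refine commutatorElement_eq_one_iff_mul_comm.mp ?_
  rw [← map_commutatorElement]
  refine (QuotientGroup.eq_one_iff _).mpr ?_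
  rwa [show ⁅w, (⟨x, hUK hx⟩ : K)⁆ = v from Subtype.ext hve.symm]

/-- `O_{q',q} (K)` is `O_{q'} (K)` times its intersection with any Sylow `q`-subgroup. -/
theorem exists_mul_of_mem_ppcore {q : ℕ} [hq : Fact q.Prime] {K : Subgroup G} (S : Sylow q K) {x : G}
    (hx : x ∈ ppcore q K) :
    ∃ w ∈ pcore' q K, ∃ s ∈ ppcore q K ⊓ (S : Subgroup K).map K.subtype, x = w * s := by
  obtain ⟨y, hy, rfl⟩ := hx
  have hsurj := QuotientGroup.mk'_surjective (Cfsg.pPrimeCore q K)
  obtain ⟨s, hs, he⟩ := Core.pCore_le_sylow (S.mapSurjective hsurj) hy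
  have hyc : y ∈ Cfsg.pPrimePCore q K := hy
  have hsP : s ∈ Cfsg.pPrimePCore q K := by
    show QuotientGroup.mk' _ s ∈ Cfsg.pCore q _
    rw [he]; exact hy
  refine ⟨K.subtype (y * s⁻¹), mem_map_of_mem _ ((QuotientGroup.eq_one_iff _).mp ?_),
    K.subtype s, ⟨mem_map_of_mem _ hsP, mem_map_of_mem _ hs⟩, ?_⟩
  · show QuotientGroup.mk' _ (y * s⁻¹) = 1
    rw [map_mul, map_inv, he, mul_inv_cancel]
  · rw [← map_mul, inv_mul_cancel_right]

/-- To centralize `O_{q',q} (K)` modulo `O_{q'} (K)` it suffices to centralize a Sylow part of it. -/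
theorem commutator_ppcore_le {q : ℕ} [hq : Fact q.Prime] {K U : Subgroup G} (S : Sylow q K)
    (hU : U ≤ normalizer (K : Set G))
    (h : ⁅ppcore q K ⊓ (S : Subgroup K).map K.subtype, U⁆ ≤ pcore' q K) :
    ⁅ppcore q K, U⁆ ≤ pcore' q K := by
  refine commutator_le.mpr fun x hx u hu => ?_
  obtain ⟨w, hw, s, hs, rfl⟩ := exists_mul_of_mem_ppcore S hx
  have hwu : ⁅w, u⁆ ∈ pcore' q K := commutator_le_left_of_normalizer (hU.trans (le_normalizer_pcore' q K))
    (commutator_mem_commutator hw hu)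
  rw [show ⁅w * s, u⁆ = w * ⁅s, u⁆ * w⁻¹ * ⁅w, u⁆ by simp only [commutatorElement_def]; group]
  exact mul_mem (mul_mem (mul_mem hw (h (commutator_mem_commutator hs hu))) (inv_mem hw)) hwu
where
  commutator_le_left_of_normalizer {V W : Subgroup G} (hW : W ≤ normalizer (V : Set G)) : ⁅V, W⁆ ≤ V :=
    Coprime.commutator_le_of_le_normalizer hW

/-- A `t`-subgroup of `K` in every `O_{q'} (K)`, `q ≠ t`, lies in `O_t (K)`. -/
theorem le_core_of_forall {t : ℕ} [ht : Fact t.Prime] {K U : Subgroup G} (hUK : U ≤ K)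
    (h : ∀ q : ℕ, q.Prime → q ≠ t → U ≤ pcore' q K) : U ≤ core t K := by
  set I : Subgroup G := K ⊓ ⨅ (q : ℕ), ⨅ (_ : q.Prime), ⨅ (_ : q ≠ t), pcore' q K with hI
  have hUI : U ≤ I := le_inf hUK (le_iInf fun q => le_iInf fun h1 => le_iInf fun h2 => h q h1 h2)
  refine hUI.trans (le_core inf_le_left (le_normalizer_of_invariant fun g hg y hy => ?_) ?_)
  · simp only [hI, mem_inf, mem_iInf] at hy ⊢
    exact ⟨K.mul_mem (K.mul_mem hg hy.1) (K.inv_mem hg), fun q h1 h2 =>
      ((mem_normalizer_iff.mp (le_normalizer_pcore' q K (le_normalizer hg))) y).mp (hy.2 q h1 h2)⟩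
  · obtain ⟨n, hn⟩ : ∃ n, Nat.card I = t ^ n := by
      refine ⟨_, Nat.eq_prime_pow_of_unique_prime_dvd Nat.card_pos.ne' fun {q} hq hd => ?_⟩
      by_contra hne
      haveI : Fact q.Prime := ⟨hq⟩
      refine not_dvd_card_pcore' q K (hd.trans (card_dvd_of_le ?_))
      exact inf_le_right.trans ((iInf_le _ q).trans ((iInf_le _ hq).trans (iInf_le _ hne)))
    exact IsPGroup.of_card hn

/-- A `q'`-subgroup `U` of `K` lying in a `q'`-subgroup normalized by enough of `K`, lies in `O_{q'} (K)`. -/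
theorem le_pcore'_of_cocyclic {q : ℕ} [hq : Fact q.Prime] {A K U : Subgroup G} [IsMulCommutative A]
    (hK : Group.IsSolvable K) (hAK : A ≤ normalizer (K : Set G))
    (hcop : (Nat.card A).Coprime (Nat.card K)) (hUK : U ≤ K) (hqU : ¬ q ∣ Nat.card U)
    (h : ∀ B ∈ Coprime.cocyclic A, ∃ Y : Subgroup G, ¬ q ∣ Nat.card Y ∧ U ≤ Y ∧
      K ⊓ centralizer (B : Set G) ≤ normalizer (Y : Set G)) : U ≤ pcore' q K := by
  set P := ppcore q K
  refine le_pcore'_of_le_ppcore (le_ppcore_of_commutator hK hUK (commutator_le.mpr fun g hg u hu => ?_)) hqU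
  have hgen := Coprime.le_iSup_centralizer_cocyclic P (hAK.trans (le_normalizer_ppcore q K))
    (hcop.coprime_dvd_right (card_dvd_of_le (ppcore_le q K))) hg
  suffices key : g ∈ P ∧ ∀ u ∈ U, ⁅g, u⁆ ∈ pcore' q K from key.2 u hu
  refine Subgroup.iSup_induction (fun B : Subgroup G => ⨆ (_ : B ∈ Coprime.cocyclic A),
    P ⊓ centralizer (B : Set G)) (C := fun g => g ∈ P ∧ ∀ u ∈ U, ⁅g, u⁆ ∈ pcore' q K) hgen ?_ ?_ ?_
  · intro B x hx
    by_cases hB : B ∈ Coprime.cocyclic A
    · rw [iSup_pos hB] at hx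
      refine ⟨hx.1, fun u hu => ?_⟩
      obtain ⟨Y, hqY, hUY, hY⟩ := h B hB
      have hxK : x ∈ K := ppcore_le q K hx.1
      refine le_pcore'_of_le_ppcore (T := Y ⊓ P) inf_le_right
        (fun hd => hqY (hd.trans (card_dvd_of_le inf_le_left))) ⟨?_, ?_⟩
      · show ⁅x, u⁆ ∈ Y
        rw [commutatorElement_def]
        exact mul_mem ((mem_normalizer_iff.mp (hY ⟨hxK, hx.2⟩) u).mp (hUY hu)) (inv_mem (hUY hu))
      · show ⁅x, u⁆ ∈ P
        rw [commutatorElement_def, show x * u * x⁻¹ * u⁻¹ = x * (u * x⁻¹ * u⁻¹) by group]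
        exact mul_mem hx.1 ((mem_normalizer_iff.mp (le_normalizer_ppcore q K (le_normalizer (hUK hu))) _).mp
          (inv_mem hx.1))
    · rw [iSup_neg hB, mem_bot] at hx
      subst hx
      exact ⟨one_mem _, fun u _ => by simp⟩
  · exact ⟨one_mem _, fun u _ => by simp⟩
  · rintro x y ⟨hx, hx'⟩ ⟨hy, hy'⟩
    refine ⟨mul_mem hx hy, fun u hu => ?_⟩
    rw [show ⁅x * y, u⁆ = x * ⁅y, u⁆ * x⁻¹ * ⁅x, u⁆ by simp only [commutatorElement_def]; group]
    exact mul_mem ((mem_normalizer_iff.mp
      (le_normalizer_pcore' q K (le_normalizer (ppcore_le q K hx))) _).mp (hy' u hu)) (hx' u hu)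

/-- The same criterion for `O_t (K)`. -/
theorem le_core_of_cocyclic {t : ℕ} [ht : Fact t.Prime] {A K U : Subgroup G} [IsMulCommutative A]
    (hK : Group.IsSolvable K) (hAK : A ≤ normalizer (K : Set G))
    (hcop : (Nat.card A).Coprime (Nat.card K)) (hUK : U ≤ K) (hU : IsPGroup t U)
    (h : ∀ B ∈ Coprime.cocyclic A, ∃ Y : Subgroup G, IsPGroup t Y ∧ U ≤ Y ∧
      K ⊓ centralizer (B : Set G) ≤ normalizer (Y : Set G)) : U ≤ core t K := by
  refine le_core_of_forall hUK fun q hq hne => ?_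
  haveI : Fact q.Prime := ⟨hq⟩
  refine le_pcore'_of_cocyclic hK hAK hcop hUK (not_dvd_of_isPGroup hne hU) fun B hB => ?_
  obtain ⟨Y, hY, h1, h2⟩ := h B hB
  exact ⟨Y, not_dvd_of_isPGroup hne hY, h1, h2⟩

/-- If a `t`-group `U` centralizes the fixed points of `z` on a `q`-group, and either `z` has no fixed
points on `U` or `t` is odd and `U = [U, z]`, then `U` centralizes the `q`-group. -/
theorem le_centralizer_of_fixed {p q t : ℕ} [hp : Fact p.Prime] [hq : Fact q.Prime] [ht : Fact t.Prime]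
    (hpq : p ≠ q) (hpt : p ≠ t) (hqt : q ≠ t) {R U : Subgroup G} {z : G} (hR : IsPGroup q R)
    (hU : IsPGroup t U) (hUR : U ≤ normalizer (R : Set G)) (hzR : z ∈ normalizer (R : Set G))
    (hzU : z ∈ normalizer (U : Set G)) (hzp : z ^ p = 1)
    (hfix : R ⊓ centralizer ({z} : Set G) ≤ centralizer (U : Set G))
    (h : U ⊓ centralizer ({z} : Set G) = ⊥ ∨ t ≠ 2 ∧ U ≤ ⁅U, zpowers z⁆) :
    U ≤ centralizer (R : Set G) := by
  haveI hRnil : Group.IsNilpotent R := hR.isNilpotent
  set L := normalizer (R : Set G) with hL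
  set Φ := (frattini R).map R.subtype with hΦ
  have hΦR : Φ ≤ R := map_subtype_le _
  have hLΦ : L ≤ normalizer (Φ : Set G) := by
    haveI : (frattini R).Characteristic := frattini_characteristic
    exact Core.normalizer_le_normalizer_map_char _
  haveI : (Φ.subgroupOf L).Normal := subgroupOf_normal (hΦR.trans le_normalizer) hLΦ
  set f := QuotientGroup.mk' (Φ.subgroupOf L) with hf
  set R' := (R.subgroupOf L).map f with hR'
  set U' := (U.subgroupOf L).map f with hU'
  set zL : L := ⟨z, hzR⟩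
  have hcR : Nat.card (R.subgroupOf L) = Nat.card R :=
    Nat.card_congr (subgroupOfEquivOfLe le_normalizer).toEquiv
  have hcU : Nat.card (U.subgroupOf L) = Nat.card U := Nat.card_congr (subgroupOfEquivOfLe hUR).toEquiv
  have hR'q : IsPGroup q R' := (hR.of_equiv (subgroupOfEquivOfLe le_normalizer).symm).map f
  have hU't : IsPGroup t U' := (hU.of_equiv (subgroupOfEquivOfLe hUR).symm).map f
  have hRn : (R.subgroupOf L).Normal := subgroupOf_normal le_normalizer le_rfl
  have hR'n : R'.Normal := Normal.map hRn f (QuotientGroup.mk'_surjective _)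
  haveI hR'c : IsMulCommutative R' := by
    rw [← le_centralizer_iff_isMulCommutative, ← commutator_eq_bot_iff_le_centralizer, hR',
      ← Subgroup.map_commutator, Subgroup.map_eq_bot_iff, hf, QuotientGroup.ker_mk']
    intro x hx
    rw [mem_subgroupOf, hΦ]
    have h1 : (x : G) ∈ ⁅R, R⁆ := by
      have h2 := mem_map_of_mem L.subtype hx
      rwa [Subgroup.map_commutator, map_subgroupOf_eq_of_le le_normalizer] at h2
    rw [← Subgroup.map_subtype_commutator] at h1
    exact map_mono (PGroup.commutator_le_frattini hR) h1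
  have hzcop : ∀ {V : Subgroup L}, ¬ p ∣ Nat.card V → (Nat.card (zpowers zL)).Coprime (Nat.card V) := by
    intro V hV
    rw [Nat.card_zpowers]
    exact (hp.out.coprime_iff_not_dvd.mpr hV).coprime_dvd_left
      (orderOf_dvd_of_pow_eq_one (Subtype.ext hzp))
  have hsol : Group.IsSolvable (zpowers zL) := Group.isSolvable_of_comm fun a b => mul_comm' a b
  have hzUL : zpowers zL ≤ normalizer (U.subgroupOf L : Set L) :=
    zpowers_le.mpr (mem_normalizer_iff.mpr fun w => mem_normalizer_iff.mp hzU (w : G))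
  have hUcop : (Nat.card U').Coprime (Nat.card R') := IsPGroup.coprime_card_of_ne t q hqt.symm U' R' hU't hR'q
  have hU'R' : U' ≤ normalizer (R' : Set (L ⧸ Φ.subgroupOf L)) := le_normalizer_of_normal
  have hfz : f zL ^ p = 1 := by rw [← map_pow, show zL ^ p = 1 from Subtype.ext hzp, map_one]
  -- the fixed points of `z` on `R'` are centralized by `U'`
  have hfixR : R' ⊓ centralizer ({f zL} : Set _) ≤ centralizer (U' : Set _) := by
    rw [← Local.FreeAction.centralizer_zpowers_eq, ← MonoidHom.map_zpowers, hR',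
      ← Coprime.map_inf_centralizer_eq f (le_normalizer_of_normal (H := R.subgroupOf L))
        (hzcop (by rw [hcR]; exact not_dvd_of_isPGroup hpq hR)) (Or.inl hsol)]
    rintro _ ⟨x, ⟨hxR, hxz⟩, rfl⟩
    refine mem_centralizer_iff.mpr ?_
    rintro _ ⟨w, hw, rfl⟩
    rw [← map_mul, ← map_mul]
    refine congrArg f (Subtype.ext ?_)
    refine mem_centralizer_iff.mp (hfix ⟨hxR, mem_centralizer_singleton_iff.mpr ?_⟩) w hw
    exact (congrArg Subtype.val (mem_centralizer_iff.mp hxz zL (mem_zpowers zL))).symm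
  set V := ⁅R', U'⁆ with hV
  have hVR : V ≤ R' := Coprime.commutator_le_of_le_normalizer hU'R'
  have hVU : Disjoint V (centralizer (U' : Set _)) :=
    Coprime.disjoint_commutator_centralizer hU'R' hUcop
  have hVz : V ⊓ centralizer ({f zL} : Set _) = ⊥ := le_bot_iff.mp fun v hv =>
    hVU.le_bot ⟨hv.1, hfixR ⟨hVR hv.1, hv.2⟩⟩
  have hzV : f zL ∈ normalizer (V : Set _) := by
    have hzU' : f zL ∈ normalizer (U' : Set _) :=
      le_normalizer_map f (mem_map_of_mem f (hzUL (mem_zpowers zL)))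
    rw [hV, Core.mem_normalizer_iff_map_conj, Subgroup.map_commutator,
      Core.map_conj_eq_of_mem_normalizer hzU',
      Core.map_conj_eq_of_mem_normalizer (normalizer_eq_top_iff.mpr hR'n ▸ mem_top _)]
  have hVU' : U' ≤ normalizer (V : Set _) := normalizer_commutator_ge_right R' U'
  have hV1 : V = ⊥ := by
    rcases h with h | ⟨ht2, hUz⟩
    · have hfree : U' ⊓ centralizer ({f zL} : Set _) = ⊥ := by
        rw [← Local.FreeAction.centralizer_zpowers_eq, ← MonoidHom.map_zpowers, hU',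
          ← Coprime.map_inf_centralizer_eq f hzUL (hzcop (by rw [hcU]; exact not_dvd_of_isPGroup hpt hU))
            (Or.inl hsol), Subgroup.map_eq_bot_iff]
        intro x hx
        have h0 : (x : G) ∈ U ⊓ centralizer ({z} : Set G) := ⟨hx.1, mem_centralizer_singleton_iff.mpr
          (congrArg Subtype.val (mem_centralizer_iff.mp hx.2 zL (mem_zpowers zL))).symm⟩
        rw [h, mem_bot] at h0
        rw [show x = 1 from Subtype.ext h0]
        exact one_mem _
      haveI := hU't.isNilpotent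
      haveI := (hR'q.to_le hVR).isNilpotent
      have hset : Local.FreeAction.Setting _ U' V (f zL) p :=
        ⟨hfz, hVU', hzV, le_normalizer_map f (mem_map_of_mem f (hzUL (mem_zpowers zL))), hfree,
          hUcop.coprime_dvd_right (card_dvd_of_le hVR), not_dvd_of_isPGroup hpq (hR'q.to_le hVR),
          not_dvd_of_isPGroup hpt hU't, inferInstance, inferInstance, disjoint_iff.mp hVU⟩
      obtain ⟨hc, -⟩ := Local.FreeAction.main _ U' V (f zL) p rfl hset
      rw [hVz, card_bot, one_pow] at hc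
      exact eq_bot_of_card_eq _ hc
    · have hc := Local.commutator_le_centralizer_of_fixedFree (ℓ := q) (q := t) (r := p) ht2 hqt hpq.symm
        hpt.symm (hR'q.to_le hVR) hU't hVU' hzV
        (le_normalizer_map f (mem_map_of_mem f (hzUL (mem_zpowers zL)))) hfz hVz
      have hUU : U' ≤ ⁅U', zpowers (f zL)⁆ := by
        rw [← MonoidHom.map_zpowers, hU', ← Subgroup.map_commutator]
        refine map_mono fun x hx => ?_
        have h2 : (x : G) ∈ (⁅U.subgroupOf L, zpowers zL⁆).map L.subtype := by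
          rw [Subgroup.map_commutator, map_subgroupOf_eq_of_le hUR, MonoidHom.map_zpowers]
          exact hUz hx
        obtain ⟨y, hy, hyx⟩ := h2
        rwa [show x = y from Subtype.ext hyx.symm]
      refine le_bot_iff.mp fun v hv => hVU.le_bot ⟨hv, mem_centralizer_iff.mpr fun w hw => ?_⟩
      exact (mem_centralizer_iff.mp (hc (hUU hw)) v hv).symm
  refine Coprime.le_centralizer_of_commutator_le_frattini hUR ?_ (Or.inr inferInstance) ?_
  · exact IsPGroup.coprime_card_of_ne t q hqt.symm U R hU hR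
  · refine commutator_le.mpr fun r hr w hw => ?_
    have h3 : f ⁅(⟨r, le_normalizer hr⟩ : L), (⟨w, hUR hw⟩ : L)⁆ ∈ V := by
      rw [map_commutatorElement]
      exact commutator_mem_commutator (mem_map_of_mem f hr) (mem_map_of_mem f hw)
    rw [hV1, mem_bot, ← MonoidHom.mem_ker, hf, QuotientGroup.ker_mk'] at h3
    exact h3

/-- The relative form: a `t`-subgroup of `K` moved by `z` and contained in a `q'`-group normalized by the
fixed points of `z` lies in `O_{q'} (K)`. -/
theorem le_pcore'_of_fixed {p q t : ℕ} [hp : Fact p.Prime] [hq : Fact q.Prime] [ht : Fact t.Prime]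
    (hpt : p ≠ t) (hqt : q ≠ t) {K U Y : Subgroup G} {z : G}
    (hK : Group.IsSolvable K) (hpK : ¬ p ∣ Nat.card K) (hzK : z ∈ normalizer (K : Set G))
    (hzp : z ^ p = 1) (hUK : U ≤ K) (hU : IsPGroup t U) (hzU : z ∈ normalizer (U : Set G))
    (h : U ⊓ centralizer ({z} : Set G) = ⊥ ∨ t ≠ 2 ∧ U ≤ ⁅U, zpowers z⁆)
    (hY : ¬ q ∣ Nat.card Y) (hUY : U ≤ Y)
    (hfix : K ⊓ centralizer ({z} : Set G) ≤ normalizer (Y : Set G)) : U ≤ pcore' q K := by
  have hqU : ¬ q ∣ Nat.card U := not_dvd_of_isPGroup hqt hU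
  by_cases hpq : p = q
  · exact (le_pcore' le_rfl le_normalizer (hpq ▸ hpK)).trans' hUK
  set W := pcore' q K with hW
  set P := ppcore q K with hP
  set L := normalizer (W : Set G) with hL
  have hKL : K ≤ L := le_normalizer.trans (le_normalizer_pcore' q K)
  have hzL : z ∈ L := le_normalizer_pcore' q K hzK
  haveI : (W.subgroupOf L).Normal := subgroupOf_normal le_normalizer le_rfl
  set f := QuotientGroup.mk' (W.subgroupOf L) with hf
  set zL : L := ⟨z, hzL⟩
  have hPL : P ≤ L := (ppcore_le q K).trans hKL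
  have hUL : U ≤ L := hUK.trans hKL
  set R := (P.subgroupOf L).map f with hR
  set U' := (U.subgroupOf L).map f with hU'
  have hcP : Nat.card (P.subgroupOf L) = Nat.card P := Nat.card_congr (subgroupOfEquivOfLe hPL).toEquiv
  have hcU : Nat.card (U.subgroupOf L) = Nat.card U := Nat.card_congr (subgroupOfEquivOfLe hUL).toEquiv
  have hzP : z ∈ normalizer (P : Set G) := le_normalizer_ppcore q K hzK
  have hzcop : ∀ {V : Subgroup L}, Nat.card V ∣ Nat.card K →
      (Nat.card (zpowers zL)).Coprime (Nat.card V) := by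
    intro V hV
    rw [Nat.card_zpowers]
    exact ((hp.out.coprime_iff_not_dvd.mpr fun hd => hpK (hd.trans hV))).coprime_dvd_left
      (orderOf_dvd_of_pow_eq_one (Subtype.ext hzp))
  have hsol : Group.IsSolvable (zpowers zL) := Group.isSolvable_of_comm fun a b => mul_comm' a b
  have hzUL : zpowers zL ≤ normalizer (U.subgroupOf L : Set L) :=
    zpowers_le.mpr (mem_normalizer_iff.mpr fun w => mem_normalizer_iff.mp hzU (w : G))
  have hzPL : zpowers zL ≤ normalizer (P.subgroupOf L : Set L) :=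
    zpowers_le.mpr (mem_normalizer_iff.mpr fun w => mem_normalizer_iff.mp hzP (w : G))
  have hRq : IsPGroup q R := by
    rintro ⟨_, x, hx, rfl⟩
    obtain ⟨y, hy, hye⟩ : (x : G) ∈ P := hx
    obtain ⟨k, hk⟩ := (Core.pCore_isPGroup q _) ⟨QuotientGroup.mk' (Cfsg.pPrimeCore q K) y, hy⟩
    refine ⟨k, Subtype.ext ?_⟩
    show (f x) ^ q ^ k = 1
    rw [← map_pow]
    refine (QuotientGroup.eq_one_iff _).mpr ?_
    rw [mem_subgroupOf]
    refine ⟨y ^ q ^ k, (QuotientGroup.eq_one_iff _).mp ?_, ?_⟩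
    · have := congrArg Subtype.val hk
      simp only [SubgroupClass.coe_pow, OneMemClass.coe_one] at this
      rw [← this]; rfl
    · simp [← hye]
  have hUR : U' ≤ normalizer (R : Set _) := by
    refine (map_mono ?_).trans (le_normalizer_map f)
    intro w hw
    exact mem_normalizer_iff.mpr fun v =>
      mem_normalizer_iff.mp (le_normalizer_ppcore q K (le_normalizer (hUK hw))) (v : G)
  have hzR : f zL ∈ normalizer (R : Set _) := le_normalizer_map f (mem_map_of_mem f (hzPL (mem_zpowers zL)))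
  have hcomm : U' ≤ centralizer (R : Set _) := by
    refine le_centralizer_of_fixed (p := p) (q := q) (t := t) hpq hpt hqt hRq
      ((hU.of_equiv (subgroupOfEquivOfLe hUL).symm).map f) hUR hzR
      (le_normalizer_map f (mem_map_of_mem f (hzUL (mem_zpowers zL))))
      (by rw [← map_pow, show zL ^ p = 1 from Subtype.ext hzp, map_one]) ?_ ?_
    · rw [← Local.FreeAction.centralizer_zpowers_eq, ← MonoidHom.map_zpowers, hR,
        ← Coprime.map_inf_centralizer_eq f hzPL (hzcop (hcP ▸ card_dvd_of_le (ppcore_le q K)))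
          (Or.inl hsol)]
      rintro _ ⟨x, ⟨hxP, hxz⟩, rfl⟩
      refine mem_centralizer_iff.mpr ?_
      rintro _ ⟨w, hw, rfl⟩
      refine (commutatorElement_eq_one_iff_mul_comm.mp ?_).symm
      rw [← map_commutatorElement]
      refine (QuotientGroup.eq_one_iff _).mpr ?_
      rw [mem_subgroupOf]
      have hxz' : (x : G) ∈ centralizer ({z} : Set G) := mem_centralizer_singleton_iff.mpr
        (congrArg Subtype.val (mem_centralizer_iff.mp hxz zL (mem_zpowers zL))).symm
      refine le_pcore'_of_le_ppcore (T := Y ⊓ P) inf_le_right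
        (fun hd => hY (hd.trans (card_dvd_of_le inf_le_left))) ⟨?_, ?_⟩
      · show ⁅(x : G), (w : G)⁆ ∈ Y
        rw [commutatorElement_def]
        exact mul_mem ((mem_normalizer_iff.mp (hfix ⟨ppcore_le q K hxP, hxz'⟩) _).mp (hUY hw))
          (inv_mem (hUY hw))
      · show ⁅(x : G), (w : G)⁆ ∈ P
        rw [commutatorElement_def, show (x : G) * w * (x : G)⁻¹ * (w : G)⁻¹ =
          x * (w * (x : G)⁻¹ * (w : G)⁻¹) by group]
        exact mul_mem hxP ((mem_normalizer_iff.mp (le_normalizer_ppcore q K (le_normalizer (hUK hw))) _).mp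
          (inv_mem hxP))
    · rcases h with h | ⟨ht2, hUz⟩
      · refine Or.inl ?_
        rw [← Local.FreeAction.centralizer_zpowers_eq, ← MonoidHom.map_zpowers, hU',
          ← Coprime.map_inf_centralizer_eq f hzUL (hzcop (hcU ▸ card_dvd_of_le hUK)) (Or.inl hsol),
          Subgroup.map_eq_bot_iff]
        intro x hx
        have h0 : (x : G) ∈ U ⊓ centralizer ({z} : Set G) := ⟨hx.1, mem_centralizer_singleton_iff.mpr
          (congrArg Subtype.val (mem_centralizer_iff.mp hx.2 zL (mem_zpowers zL))).symm⟩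
        rw [h, mem_bot] at h0
        rw [show x = 1 from Subtype.ext h0]
        exact one_mem _
      · refine Or.inr ⟨ht2, ?_⟩
        rw [← MonoidHom.map_zpowers, hU', ← Subgroup.map_commutator]
        refine map_mono fun x hx => ?_
        have h2 : (x : G) ∈ (⁅U.subgroupOf L, zpowers zL⁆).map L.subtype := by
          rw [Subgroup.map_commutator, map_subgroupOf_eq_of_le hUL, MonoidHom.map_zpowers]
          exact hUz hx
        obtain ⟨y, hy, hyx⟩ := h2
        rwa [show x = y from Subtype.ext hyx.symm]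
  refine le_pcore'_of_le_ppcore (le_ppcore_of_commutator hK hUK (commutator_le.mpr fun g hg u hu => ?_)) hqU
  have h3 : f ⁅(⟨g, hPL hg⟩ : L), (⟨u, hUL hu⟩ : L)⁆ = 1 := by
    rw [map_commutatorElement, commutatorElement_eq_one_iff_mul_comm]
    exact mem_centralizer_iff.mp (hcomm (mem_map_of_mem f (show (⟨u, hUL hu⟩ : L) ∈ U.subgroupOf L from hu)))
      _ (mem_map_of_mem f (show (⟨g, hPL hg⟩ : L) ∈ P.subgroupOf L from hg))
  exact mem_subgroupOf.mp ((QuotientGroup.eq_one_iff _).mp h3)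

/-- The same criterion for `O_t (K)`. -/
theorem le_core_of_fixed {p t : ℕ} [hp : Fact p.Prime] [ht : Fact t.Prime] (hpt : p ≠ t)
    {K U Y : Subgroup G} {z : G} (hK : Group.IsSolvable K) (hpK : ¬ p ∣ Nat.card K)
    (hzK : z ∈ normalizer (K : Set G)) (hzp : z ^ p = 1) (hUK : U ≤ K) (hU : IsPGroup t U)
    (hzU : z ∈ normalizer (U : Set G))
    (h : U ⊓ centralizer ({z} : Set G) = ⊥ ∨ t ≠ 2 ∧ U ≤ ⁅U, zpowers z⁆)
    (hY : IsPGroup t Y) (hUY : U ≤ Y)
    (hfix : K ⊓ centralizer ({z} : Set G) ≤ normalizer (Y : Set G)) : U ≤ core t K := by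
  refine le_core_of_forall hUK fun q hq hne => ?_
  haveI : Fact q.Prime := ⟨hq⟩
  exact le_pcore'_of_fixed hpt hne hK hpK hzK hzp hUK hU hzU h (not_dvd_of_isPGroup hne hY) hUY hfix

end Cfsg.Lib.Sig.SSFT
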